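/-
Exceptional characters attached to a self-centralizing abelian trivial intersection subgroup.
-/
import Cfsg.Agent.S0851
import Cfsg.Agent.Lib.Suzuki.Torus

namespace CfsgLib.Suzuki.Degrees

open Cfsg CfsgLib.CharTheory
open scoped ComplexConjugate

universe u

variable {G : Type u} [Group G] [Fintype G] [DecidableEq G]

/-- The non-trivial elements of a subgroup. -/
noncomputable def punct (K : Subgroup G) : Finset G :=
  open scoped Classical in Finset.univ.filter fun k => k ∈ K ∧ k ≠ 1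

theorem mem_punct {K : Subgroup G} {k : G} : k ∈ punct K ↔ k ∈ K ∧ k ≠ 1 := by
  classical simp [punct]

theorem card_punct (K : Subgroup G) : (punct K).card + 1 = Nat.card K := by
  classical
  have : insert (1 : G) (punct K) = Finset.univ.filter (· ∈ K) := by
    ext x
    by_cases hx : x = 1
    · subst hx; simp
    · simp [punct, hx]
  rw [Nat.card_eq_fintype_card, Fintype.card_subtype, ← this,
    Finset.card_insert_of_notMem fun h => (mem_punct.mp h).2 rfl]

theorem sum_subgroup (K : Subgroup G) [Fintype K] (f : G → ℂ) :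
    ∑ k : K, f k = f 1 + ∑ k ∈ punct K, f k := by
  classical
  have : insert (1 : G) (punct K) = Finset.univ.filter (· ∈ K) := by
    ext x
    by_cases hx : x = 1
    · subst hx; simp
    · simp [punct, hx]
  rw [← Finset.sum_insert (fun h => (mem_punct.mp h).2 rfl), this]
  exact (Finset.sum_subtype (p := fun x => x ∈ K) (Finset.univ.filter (· ∈ K)) (fun x => by simp) f).symm

theorem ti_normalizer (K : Subgroup G) (hC : ∀ k ∈ K, k ≠ 1 → Subgroup.centralizer ({k} : Set G) = K)
    {g k : G} (hk : k ∈ K) (h1 : k ≠ 1) (h : g * k * g⁻¹ ∈ K) :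
    g ∈ Subgroup.normalizer (K : Set G) := by
  have h1' : g * k * g⁻¹ ≠ 1 := fun e => h1 (by simpa using e)
  refine Subgroup.mem_normalizer_iff.mpr fun x => ?_
  nth_rewrite 1 [← hC k hk h1]
  rw [← hC _ h h1', Subgroup.mem_centralizer_singleton_iff, Subgroup.mem_centralizer_singleton_iff]
  constructor
  · intro e
    calc g * x * g⁻¹ * (g * k * g⁻¹) = g * (x * k) * g⁻¹ := by group
      _ = g * (k * x) * g⁻¹ := by rw [e]
      _ = _ := by group
  · intro e
    have e' : g * (x * k) * g⁻¹ = g * (k * x) * g⁻¹ := by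
      calc _ = g * x * g⁻¹ * (g * k * g⁻¹) := by group
        _ = _ := by rw [e]
        _ = _ := by group
    simpa using e'

/-- Summing a class function over the conjugates of the non-trivial elements. -/
theorem sum_conjSet (K : Subgroup G) (hC : ∀ k ∈ K, k ≠ 1 → Subgroup.centralizer ({k} : Set G) = K)
    [DecidablePred (· ∈ conjSet K)] {f : G → ℂ} (hf : IsClassFunction G f) :
    (Nat.card (Subgroup.normalizer (K : Set G)) : ℂ) * ∑ z ∈ Finset.univ.filter (· ∈ conjSet K), f z =
      (Nat.card G : ℂ) * ∑ k ∈ punct K, f k := by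
  classical
  set P := (Finset.univ : Finset G) ×ˢ punct K with hP
  set φ : G × G → G := fun x => x.1 * x.2 * x.1⁻¹ with hφ
  have himg : ∀ z, z ∈ Finset.univ.filter (· ∈ conjSet K) ↔ z ∈ P.image φ := by
    intro z
    simp only [Finset.mem_filter, Finset.mem_univ, true_and, Finset.mem_image, hP, Finset.mem_product,
      mem_punct, hφ]
    constructor
    · rintro ⟨hz, g, hg⟩
      exact ⟨(g, g⁻¹ * z * g), ⟨hg, fun e => hz (by simpa [mul_assoc] using congrArg (fun v => g * v * g⁻¹) e)⟩, by group⟩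
    · rintro ⟨⟨g, k⟩, ⟨hk, hk1⟩, rfl⟩
      exact ⟨fun e => hk1 (by simpa using e), g, by simpa [mul_assoc] using hk⟩
  have hfib : ∀ z ∈ P.image φ, (P.filter fun x => φ x = z).card = Nat.card (Subgroup.normalizer (K : Set G)) := by
    intro z hz
    obtain ⟨⟨g₀, k₀⟩, hx₀, rfl⟩ := Finset.mem_image.mp hz
    simp only [hP, Finset.mem_product, Finset.mem_univ, true_and, mem_punct] at hx₀
    have : Fintype ↥(Subgroup.normalizer (K : Set G)) := Fintype.ofFinite _
    rw [Nat.card_eq_fintype_card, ← Finset.card_univ]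
    symm
    refine Finset.card_bij (fun x _ => (g₀ * (x : G), (x : G)⁻¹ * k₀ * (x : G))) ?_ ?_ ?_
    · intro x _
      simp only [Finset.mem_filter, hP, Finset.mem_product, Finset.mem_univ, true_and, mem_punct, hφ]
      refine ⟨⟨?_, fun e => hx₀.2 (by simpa [mul_assoc] using congrArg (fun v => (x : G) * v * (x : G)⁻¹) e)⟩, by group⟩
      have := (Subgroup.mem_normalizer_iff.mp ((Subgroup.normalizer (K : Set G)).inv_mem x.2) k₀).mp hx₀.1
      simpa using this
    · intro x _ y _ h
      exact Subtype.ext (mul_left_cancel (congrArg Prod.fst h))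
    · rintro ⟨g, k⟩ h
      simp only [Finset.mem_filter, hP, Finset.mem_product, Finset.mem_univ, true_and, mem_punct, hφ] at h
      obtain ⟨⟨hk, hk1⟩, he⟩ := h
      have hconj : (g₀⁻¹ * g) * k * (g₀⁻¹ * g)⁻¹ = k₀ := by
        calc _ = g₀⁻¹ * (g * k * g⁻¹) * g₀ := by group
          _ = _ := by rw [he]; group
      have hmem := ti_normalizer K hC hk hk1 (g := g₀⁻¹ * g) (by rw [hconj]; exact hx₀.1)
      refine ⟨⟨g₀⁻¹ * g, hmem⟩, Finset.mem_univ _, ?_⟩
      simp only [Prod.mk.injEq, mul_inv_cancel_left, true_and]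
      rw [← hconj]; group
  have hF : ∀ x ∈ P, f (φ x) = f x.2 := fun x _ => hf x.2 x.1
  rw [show Finset.univ.filter (· ∈ conjSet K) = P.image φ from Finset.ext himg]
  calc (Nat.card (Subgroup.normalizer (K : Set G)) : ℂ) * ∑ z ∈ P.image φ, f z
      = ∑ z ∈ P.image φ, ∑ x ∈ P.filter (fun x => φ x = z), f (φ x) := by
        rw [Finset.mul_sum]
        refine Finset.sum_congr rfl fun z hz => ?_
        rw [Finset.sum_congr rfl fun x hx => by rw [(Finset.mem_filter.mp hx).2], Finset.sum_const,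
          hfib z hz, nsmul_eq_mul]
    _ = ∑ x ∈ P, f (φ x) := Finset.sum_fiberwise_of_maps_to (fun x hx => Finset.mem_image_of_mem φ hx) _
    _ = ∑ x ∈ P, f x.2 := Finset.sum_congr rfl hF
    _ = _ := by
        simp only [hP, Finset.sum_product, Finset.sum_const, Finset.card_univ, nsmul_eq_mul,
          Nat.card_eq_fintype_card]

/-- A family of exceptional characters. -/
structure Fam (K : Subgroup G) (e n : ℕ) where
  μ : Fin n → IrrCharacter G
  inj : Function.Injective μ
  ε : ℤ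
  hε : ε = 1 ∨ ε = -1
  S : Fin n → G → ℂ
  deg : ∀ i j, charDegree (μ i : G → ℂ) = charDegree (μ j : G → ℂ)
  off : ∀ i j, ∀ x : G, x ∉ conjSet K → (μ i : G → ℂ) x = (μ j : G → ℂ) x
  c : ℤ
  val : ∀ i, ∀ k ∈ punct K, (μ i : G → ℂ) k = (ε : ℂ) * S i k + c
  other : ∀ ψ : IrrCharacter G, (∀ i, ψ ≠ μ i) → ∃ z : ℤ, ∀ k ∈ punct K, (ψ : G → ℂ) k = z
  sum_row : ∀ i, ∑ k ∈ punct K, S i k = -(e : ℂ)
  sum_col : ∀ k ∈ punct K, ∑ i, S i k = -1
  sum_sq : ∀ k ∈ punct K, ∑ i, S i k * conj (S i k) = (Nat.card K : ℂ) - e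
  sep : ∀ i j, (∀ k ∈ punct K, S i k = S j k) → i = j
  nonconst : ∀ i, ∃ a ∈ punct K, ∃ b ∈ punct K, S i a ≠ S i b

theorem exists_fam (K : Subgroup G) (hab : ∀ a ∈ K, ∀ b ∈ K, a * b = b * a)
    (hC : ∀ k ∈ K, k ≠ 1 → Subgroup.centralizer ({k} : Set G) = K)
    (e n : ℕ) (hN : Nat.card (Subgroup.normalizer (K : Set G)) = e * Nat.card K) (he : 2 ≤ e)
    (hn : 2 ≤ n) (hcount : n * e + 1 = Nat.card K) :
    Nonempty (Fam K e n) := by
  classical
  set N := Subgroup.normalizer (K : Set G) with hNdef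
  have : Fintype N := Fintype.ofFinite N
  set KL := K.subgroupOf N with hKL
  have : KL.Normal := Subgroup.normal_in_normalizer
  have : Fintype KL := Fintype.ofFinite KL
  have hKcard : Nat.card KL = Nat.card K := Nat.card_congr (Subgroup.subgroupOfEquivOfLe Subgroup.le_normalizer).toEquiv
  have hindex : KL.index = e := by
    have h := KL.card_mul_index
    rw [hKcard, hN, mul_comm e] at h
    exact Nat.eq_of_mul_eq_mul_left Nat.card_pos h
  have hlt : K < N := by
    refine lt_of_le_of_ne Subgroup.le_normalizer fun eq => ?_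
    rw [← eq] at hN
    nlinarith [Nat.card_pos (α := K)]
  have hKL' : KL < ⊤ := lt_top_iff_ne_top.mpr fun e' => hlt.not_ge (Subgroup.subgroupOf_eq_top.mp e')
  have hCle : ∀ k ∈ K, k ≠ 1 → Subgroup.centralizer ({k} : Set G) ≤ K := fun k hk h1 => (hC k hk h1).le
  have hC' : ∀ k ∈ KL, k ≠ 1 → Subgroup.centralizer ({k} : Set N) ≤ KL := by
    intro k hk hk1 g hg
    refine Subgroup.mem_subgroupOf.mpr (hCle _ (Subgroup.mem_subgroupOf.mp hk) (fun e => hk1 (Subtype.ext e)) ?_)
    rw [Subgroup.mem_centralizer_singleton_iff] at hg ⊢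
    exact congrArg Subtype.val hg
  have hTI : ∀ g : G, g ∉ N → ∀ k ∈ K, g * k * g⁻¹ ∈ K → k = 1 := fun g hg k hk h => by
    by_contra h1
    exact hg (ti_normalizer K hC hk h1 h)
  let X := {χ : IrrCharacter N // ∃ k : N, (k : G) ∈ K ∧ (χ : N → ℂ) k ≠ (χ : N → ℂ) 1}
  have hXS : ∀ χ : X, (χ.1 : N → ℂ) ∈ FrobKernelTI.S KL := fun χ => by
    obtain ⟨k, hk, h⟩ := χ.2
    exact ⟨χ.1.2, k, Subgroup.mem_subgroupOf.mpr hk, h⟩
  have hdeg : ∀ χ : X, (χ.1 : N → ℂ) 1 = (e : ℂ) := fun χ => by
    obtain ⟨θ, hθ, -, hχ⟩ := FrobKernelTI.exists_eq_ind KL hC' hKL' (hXS χ)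
    rw [hχ, indFun_apply_one, hindex, degree_one_of_commutative (fun a b => Subtype.ext (Subtype.ext
      (hab _ (Subgroup.mem_subgroupOf.mp a.2) _ (Subgroup.mem_subgroupOf.mp b.2)))) hθ, mul_one]
  have : Fintype X := Fintype.ofFinite X
  -- the characters trivial on the kernel
  set T := Finset.univ.filter fun χ : IrrCharacter N => ∀ k : N, (k : G) ∈ K → (χ : N → ℂ) k = (χ : N → ℂ) 1 with hT
  have hsplit : ∀ F : IrrCharacter N → ℂ, ∑ χ, F χ = ∑ χ ∈ T, F χ + ∑ χ : X, F χ.1 := fun F => by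
    rw [← Finset.sum_filter_add_sum_filter_not Finset.univ
      (fun χ : IrrCharacter N => ∀ k : N, (k : G) ∈ K → (χ : N → ℂ) k = (χ : N → ℂ) 1)]
    congr 1
    exact Finset.sum_subtype _ (fun χ => by simp) F
  have hTsq : ∑ χ ∈ T, ((χ : N → ℂ) 1) ^ 2 = (e : ℂ) := by
    rw [← hindex, ← sum_degree_sq_kernel KL, Nat.cast_sum,
      Finset.sum_subtype (p := fun χ : IrrCharacter N => ∀ k ∈ KL, (χ : N → ℂ) k = (χ : N → ℂ) 1) T
        (fun χ => by simp [hT, hKL, Subgroup.mem_subgroupOf])]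
    refine Finset.sum_congr rfl fun χ _ => ?_
    rw [(charDegree_spec' χ.1.2).1]
    push_cast
    ring
  have hX : Fintype.card X = n := by
    have h1 := sum_irr_degree_sq (G := N)
    rw [hsplit fun χ => ((χ : N → ℂ) 1) ^ 2, hTsq, Finset.sum_congr rfl fun χ _ => by rw [hdeg χ],
      Finset.sum_const, Finset.card_univ, nsmul_eq_mul, hN] at h1
    have h2 : e + Fintype.card X * e ^ 2 = e * Nat.card K := by exact_mod_cast h1
    rw [← hcount] at h2
    nlinarith [Nat.eq_of_mul_eq_mul_right (show 0 < e * e by positivity)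
      (show Fintype.card X * (e * e) = n * (e * e) by linarith)]
  rcases Cfsg.Agent.S0851.result K (fun g hg k hk h => hTI g hg k hk h) hlt hCle hab with ⟨h1, -⟩ | ⟨ε', f, hε', finj, hf⟩
  · rw [Nat.card_eq_fintype_card] at h1
    exact absurd (hX.symm.trans h1) (by omega)
  obtain ⟨ε, hε, rfl⟩ : ∃ ε : ℤ, (ε = 1 ∨ ε = -1) ∧ ε' = (ε : ℂ) := by
    rcases hε' with h | h
    · exact ⟨1, Or.inl rfl, by simp [h]⟩
    · exact ⟨-1, Or.inr rfl, by simp [h]⟩
  have hεsq : (ε : ℂ) * ε = 1 := by rcases hε with h | h <;> subst h <;> simp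
  set E : Fin n ≃ X := (Fintype.equivFinOfCardEq hX).symm with hE
  let exN : X → G → ℂ := fun χ x => if h : x ∈ N then (χ.1 : N → ℂ) ⟨x, h⟩ else 0
  have hext : ∀ (χ : X) (k : N), exN χ k = (χ.1 : N → ℂ) k := fun χ k => by simp [exN]
  have hdiffval : ∀ a b : X, ∀ x : G,
      (f a : G → ℂ) x - (f b : G → ℂ) x = (ε : ℂ) * indFun N ((a.1 : N → ℂ) - (b.1 : N → ℂ)) x := fun a b x => by
    rw [hf a b, Pi.smul_apply, smul_eq_mul, Pi.sub_apply, ← mul_assoc, hεsq, one_mul]
  have hvan : ∀ a : X, ∀ x : N, (x : G) ∉ K → (a.1 : N → ℂ) x = 0 := fun a x hx =>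
    FrobKernelTI.vanish KL hC' hKL' (hXS a) fun h => hx (Subgroup.mem_subgroupOf.mp h)
  have hoff : ∀ a b : X, ∀ x : G, x ∉ conjSet K → (f a : G → ℂ) x = (f b : G → ℂ) x := by
    intro a b x hx
    refine sub_eq_zero.mp ?_
    rw [hdiffval]
    by_cases hx1 : x = 1
    · simp [hx1, indFun_apply_one, hdeg]
    · have : indFun N ((a.1 : N → ℂ) - (b.1 : N → ℂ)) x = 0 := by
        simp only [indFun]
        rw [Finset.sum_eq_zero fun y _ => ?_, mul_zero]
        by_cases hy : y⁻¹ * x * y ∈ N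
        · have hyK : y⁻¹ * x * y ∉ K := fun h => hx ⟨hx1, y, h⟩
          rw [show y⁻¹ * x * y = ((⟨_, hy⟩ : N) : G) from rfl, extendByZero_coe]
          simp [hvan a ⟨_, hy⟩ hyK, hvan b ⟨_, hy⟩ hyK]
        · exact extendByZero_of_not_mem N _ hy
      rw [this, mul_zero]
  -- the constants
  have hconst : ∀ ψ : IrrCharacter G, ∃ z : ℤ, ∀ k ∈ punct K,
      (ψ : G → ℂ) k = (ε : ℂ) * (∑ a : X, if ψ = f a then exN a k else 0) + z := by
    intro ψ
    set g : N → ℂ := (fun x : N => (ψ : G → ℂ) x) -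
      (fun x : N => (ε : ℂ) * ∑ a : X, if ψ = f a then (a.1 : N → ℂ) x else 0) with hg
    have hgen : IsGeneralizedCharacter N g := by
      refine isGenChar_sub (isGenChar_of_char (isCharacter_restrict (isCharacter_of_irr ψ.2) N)) ?_
      rw [show (fun x : N => (ε : ℂ) * ∑ a : X, if ψ = f a then (a.1 : N → ℂ) x else 0) =
        ∑ a : X, if ψ = f a then (ε : ℂ) • (a.1 : N → ℂ) else 0 from ?_]
      · refine isGenChar_sum _ _ fun a _ => ?_
        split_ifs
        · exact isGenChar_intSmul ε (isGenChar_of_char (isCharacter_of_irr a.1.2))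
        · exact isGenChar_zero
      · funext x
        rw [Finset.mul_sum, Finset.sum_apply]
        exact Finset.sum_congr rfl fun a _ => by split_ifs <;> simp
    have hgcl : IsClassFunction N g := (isGenChar_iff_coeff_int.mp hgen).1
    have hgint : ∀ φ, IsIrrCharacter N φ → ∃ z : ℤ, classInner g φ = z := fun φ hφ =>
      classInner_genChar_int hgen (isGenChar_of_char (isCharacter_of_irr hφ))
    have hres : ∀ a b : X, classInner (fun x : N => (ψ : G → ℂ) x) ((a.1 : N → ℂ) - (b.1 : N → ℂ)) =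
        (ε : ℂ) * ((if ψ = f a then 1 else 0) - (if ψ = f b then 1 else 0)) := by
      intro a b
      rw [← frobenius_reciprocity' N _ (isClassFunction_irr ψ.2), hf a b, classInner_smul_right,
        classInner_sub_right, classInner_irr ψ.2 (f a).2, classInner_irr ψ.2 (f b).2, map_intCast]
      simp only [← Subtype.ext_iff]
    have hsum : ∀ b : X, classInner (fun x : N => (ε : ℂ) * ∑ a : X, if ψ = f a then (a.1 : N → ℂ) x else 0) b.1 =
        (ε : ℂ) * (if ψ = f b then 1 else 0) := by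
      intro b
      rw [show (fun x : N => (ε : ℂ) * ∑ a : X, if ψ = f a then (a.1 : N → ℂ) x else 0) =
        ∑ a : X, (if ψ = f a then (ε : ℂ) else 0) • (a.1 : N → ℂ) from ?_, classInner_sum_left,
        Finset.sum_eq_single b]
      · rw [classInner_smul_left, classInner_irr_self b.1.2]; split_ifs <;> simp
      · intro a _ hab'
        rw [classInner_smul_left, classInner_irr_ne a.1.2 b.1.2 fun h => hab' (Subtype.ext (Subtype.ext h)),
          mul_zero]
      · simp
      · funext x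
        rw [Finset.mul_sum, Finset.sum_apply]
        exact Finset.sum_congr rfl fun a _ => by split_ifs <;> simp
    obtain ⟨b₀⟩ : Nonempty X := Fintype.card_pos_iff.mp (by omega)
    obtain ⟨r₀, hr₀⟩ := hgint _ b₀.1.2
    have hs : ∀ χ ∈ FrobKernelTI.S KL, classInner g χ = ((r₀ : ℂ) / e) * χ 1 := by
      rintro χ ⟨hirr, k, hk, hne⟩
      obtain ⟨a, rfl⟩ : ∃ a : X, (a.1 : N → ℂ) = χ :=
        ⟨⟨⟨χ, hirr⟩, k, Subgroup.mem_subgroupOf.mp hk, hne⟩, rfl⟩
      rw [hdeg, div_mul_cancel₀ _ (Nat.cast_ne_zero.mpr (by omega)), ← hr₀]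
      refine sub_eq_zero.mp ?_
      rw [hg, classInner_sub_left, classInner_sub_left, hsum, hsum]
      have := hres a b₀
      rw [classInner_sub_right] at this
      linear_combination this
    obtain ⟨Φ, hΦ, hval⟩ := FrobKernelTI.kernel_const KL hC' hKL' hgcl hs
    obtain ⟨z, hz⟩ := hΦ hgint
    refine ⟨z - r₀, fun k hk => ?_⟩
    obtain ⟨hkK, hk1⟩ := mem_punct.mp hk
    have hkN : k ∈ N := Subgroup.le_normalizer hkK
    have h := hval ⟨k, hkN⟩ (Subgroup.mem_subgroupOf.mpr hkK) (fun e' => hk1 (congrArg Subtype.val e'))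
    rw [hg, Pi.sub_apply, hz, hindex, div_mul_cancel₀ _ (Nat.cast_ne_zero.mpr (by omega)), sub_eq_iff_eq_add] at h
    rw [h, Finset.sum_congr rfl fun a _ => show (if ψ = f a then exN a k else 0) =
      if ψ = f a then (a.1 : N → ℂ) ⟨k, hkN⟩ else 0 by rw [← hext a ⟨k, hkN⟩]]
    push_cast
    ring
  have hin : ∀ a : X, ∀ k, ∑ b : X, (if f a = f b then exN b k else 0) = exN a k := fun a k => by
    rw [Finset.sum_eq_single a]
    · simp
    · intro b _ hb; rw [if_neg fun h => hb (finj h).symm]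
    · simp
  -- one constant for the whole family
  obtain ⟨a₀⟩ : Nonempty X := Fintype.card_pos_iff.mp (by omega)
  obtain ⟨c, hc⟩ := hconst (f a₀)
  have hvalX : ∀ a : X, ∀ k ∈ punct K, (f a : G → ℂ) k = (ε : ℂ) * exN a k + c := by
    intro a k hk
    obtain ⟨hkK, hk1⟩ := mem_punct.mp hk
    have hkN : k ∈ N := Subgroup.le_normalizer hkK
    have h0 := hc k hk
    rw [hin] at h0
    have h1 := hdiffval a a₀ k
    rw [indFun_apply_of_TI N (K : Set G) hTI
      (isClassFunction_sub (isClassFunction_irr a.1.2) (isClassFunction_irr a₀.1.2))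
      (fun x hx => by simp [hvan a x hx, hvan a₀ x hx]) (by simp [hdeg]) ⟨k, hkN⟩ hkK, Pi.sub_apply,
      ← hext a ⟨k, hkN⟩, ← hext a₀ ⟨k, hkN⟩] at h1
    linear_combination h1 + h0
  have hnonconst : ∀ a : X, ∃ x ∈ punct K, ∃ y ∈ punct K, exN a x ≠ exN a y := by
    intro a
    obtain ⟨b, hb⟩ := Fintype.exists_ne_of_one_lt_card (by omega : 1 < Fintype.card X) a
    have := FrobKernelTI.not_const KL hC' hKL' (hXS a) (hXS b) (fun h => hb (Subtype.ext (Subtype.ext h)).symm)
    simp only [not_forall] at this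
    obtain ⟨x, hx, y, hy, hx1, hy1, hne⟩ := this
    refine ⟨x, mem_punct.mpr ⟨Subgroup.mem_subgroupOf.mp hx, fun h => hx1 (Subtype.ext h)⟩,
      y, mem_punct.mpr ⟨Subgroup.mem_subgroupOf.mp hy, fun h => hy1 (Subtype.ext h)⟩, ?_⟩
    rw [hext, hext]
    exact hne
  have hrow : ∀ a : X, ∑ k ∈ punct K, exN a k = -(e : ℂ) := by
    intro a
    have : Fintype K := Fintype.ofFinite K
    have h0 : ∑ x : N, (a.1 : N → ℂ) x = 0 := by
      have hne : (a.1 : N → ℂ) ≠ fun _ => 1 := fun h => by
        obtain ⟨k, -, hk⟩ := a.2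
        exact hk (by rw [h])
      have := classInner_irr_ne a.1.2 isIrrCharacter_one hne
      simp only [classInner, map_one, mul_one] at this
      exact (mul_eq_zero.mp this).resolve_left (inv_ne_zero (Nat.cast_ne_zero.mpr Nat.card_pos.ne'))
    have h1 : ∑ k : K, exN a k = 0 := by
      rw [← h0, ← Finset.sum_filter_add_sum_filter_not Finset.univ (fun x : N => (x : G) ∈ K),
        Finset.sum_eq_zero (s := Finset.univ.filter fun x : N => ¬ (x : G) ∈ K)
          (fun x hx => hvan a x (Finset.mem_filter.mp hx).2), add_zero,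
        Finset.sum_subtype (p := fun x : N => (x : G) ∈ K) _ (fun x => by simp)]
      exact Fintype.sum_equiv
        { toFun := fun k : K => (⟨⟨(k : G), Subgroup.le_normalizer k.2⟩, k.2⟩ : {x : N // (x : G) ∈ K})
          invFun := fun x => ⟨((x : N) : G), x.2⟩
          left_inv := fun k => rfl
          right_inv := fun x => rfl } _ _ fun k => hext a ⟨(k : G), Subgroup.le_normalizer k.2⟩
    rw [sum_subgroup K (exN a), show exN a 1 = (e : ℂ) by rw [← hdeg a, ← hext]; rfl] at h1
    linear_combination h1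
  have hcol : ∀ k ∈ punct K, ∑ a : X, exN a k = -1 ∧ ∑ a : X, exN a k * conj (exN a k) = (Nat.card K : ℂ) - e := by
    intro k hk
    obtain ⟨hkK, hk1⟩ := mem_punct.mp hk
    have hkN : k ∈ N := Subgroup.le_normalizer hkK
    set k' : N := ⟨k, hkN⟩ with hk'
    have hTk : ∀ χ ∈ T, (χ : N → ℂ) k' = (χ : N → ℂ) 1 := fun χ hχ => (Finset.mem_filter.mp hχ).2 k' hkK
    have hk'1 : k' ≠ 1 := fun h => hk1 (congrArg Subtype.val h)
    constructor
    · have h := sum_irr_apply_mul_degree (G := N) k'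
      rw [if_neg hk'1, hsplit fun χ => (χ : N → ℂ) k' * (χ : N → ℂ) 1,
        Finset.sum_congr rfl fun χ hχ => by rw [hTk χ hχ, ← sq], hTsq] at h
      simp only [hdeg, ← Finset.sum_mul] at h
      have he0 : (e : ℂ) ≠ 0 := Nat.cast_ne_zero.mpr (by omega)
      have : ((∑ a : X, exN a k) + 1) * (e : ℂ) = 0 := by
        rw [Finset.sum_congr rfl fun a _ => show exN a k = (a.1 : N → ℂ) k' from hext a k']
        linear_combination h
      linear_combination (mul_eq_zero.mp this).resolve_right he0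
    · have h := sum_irr_mul_conj (G := N) k' k'
      rw [if_pos (IsConj.refl _), hsplit fun χ => (χ : N → ℂ) k' * conj ((χ : N → ℂ) k'),
        Finset.sum_congr rfl (g := fun χ : IrrCharacter N => ((χ : N → ℂ) 1) ^ 2) fun χ hχ => by
          rw [hTk χ hχ, (charDegree_spec' χ.2).1, Complex.conj_natCast, sq], hTsq] at h
      have hcc : Nat.card (Subgroup.centralizer ({k'} : Set N)) = Nat.card K := by
        rw [← hKcard]
        refine congrArg (fun H : Subgroup N => Nat.card H) (le_antisymm (hC' k' hkK hk'1) fun x hx => ?_)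
        exact Subgroup.mem_centralizer_singleton_iff.mpr (Subtype.ext (hab _ hx _ hkK))
      rw [hcc] at h
      rw [Finset.sum_congr rfl fun a _ => by rw [show exN a k = (a.1 : N → ℂ) k' from hext a k']]
      linear_combination h
  have hval1 : ∀ a : X, (f a : G → ℂ) 1 = (f a₀ : G → ℂ) 1 := fun a =>
    hoff a a₀ 1 (fun h => h.1 rfl)
  refine ⟨{
    μ := fun i => f (E i)
    inj := finj.comp E.injective
    ε := ε
    hε := hε
    S := fun i => exN (E i)
    deg := fun i j => by simp only [charDegree, hval1 (E i), hval1 (E j)]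
    off := fun i j => hoff (E i) (E j)
    c := c
    val := fun i => hvalX (E i)
    other := fun ψ hψ => ?_
    sum_row := fun i => hrow (E i)
    sum_col := fun k hk => (E.sum_comp (fun a => exN a k)).trans (hcol k hk).1
    sum_sq := fun k hk => (E.sum_comp (fun a => exN a k * conj (exN a k))).trans (hcol k hk).2
    sep := fun i j h => ?_
    nonconst := fun i => hnonconst (E i) }⟩
  · obtain ⟨z, hz⟩ := hconst ψ
    refine ⟨z, fun k hk => ?_⟩
    rw [hz k hk, Finset.sum_eq_zero fun a _ => ?_]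
    · simp
    · exact if_neg fun h => hψ (E.symm a) (by simp [h])
  · apply E.injective
    apply Subtype.ext
    apply Subtype.ext
    funext x
    by_cases hx : (x : G) ∈ K
    · by_cases hx1 : x = 1
      · rw [hx1, hdeg, hdeg]
      · rw [← hext, ← hext]
        exact h _ (mem_punct.mpr ⟨hx, fun e' => hx1 (Subtype.ext e')⟩)
    · rw [hvan _ x hx, hvan _ x hx]

end CfsgLib.Suzuki.Degrees
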