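/-
Column relations at a trivial intersection torus.
-/
import Cfsg.Agent.Lib.Suzuki.Degrees.TorusChars

namespace CfsgLib.Suzuki.Degrees

open Cfsg CfsgLib.CharTheory
open scoped ComplexConjugate

universe u

variable {G : Type u} [Group G] [Fintype G] [DecidableEq G]

/-- `z` records the constant values of `ψ` on the punctured subgroup. -/
def ValOn (K : Subgroup G) (ψ : IrrCharacter G) (z : ℤ) : Prop :=
  ∀ k ∈ punct K, (ψ : G → ℂ) k = z

theorem punct_nonempty {K : Subgroup G} (h : 2 ≤ Nat.card K) : (punct K).Nonempty := by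
  rw [← Finset.card_pos]
  have := card_punct K
  omega

/-- The degree is congruent to a constant value modulo the order of the subgroup. -/
theorem card_dvd_sub (K : Subgroup G) {ψ : IrrCharacter G} {z : ℤ} (h : ValOn K ψ z) :
    (Nat.card K : ℤ) ∣ (charDegree (ψ : G → ℂ) : ℤ) - z := by
  have : Fintype K := Fintype.ofFinite K
  obtain ⟨t, ht⟩ := classInner_char_nat (isCharacter_restrict (isCharacter_of_irr ψ.2) K)
    (isCharacter_one (G := K))
  simp only [classInner, map_one, mul_one] at ht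
  rw [sum_subgroup K (ψ : G → ℂ), Finset.sum_congr rfl h, Finset.sum_const, nsmul_eq_mul,
    (charDegree_spec' ψ.2).1] at ht
  have hK : (Nat.card K : ℂ) ≠ 0 := Nat.cast_ne_zero.mpr Nat.card_pos.ne'
  have hp : ((punct K).card : ℂ) = (Nat.card K : ℂ) - 1 := by
    rw [← card_punct K]; push_cast; ring
  rw [hp, inv_mul_eq_iff_eq_mul₀ hK] at ht
  refine ⟨(t : ℤ) - z, ?_⟩
  have : (((charDegree (ψ : G → ℂ) : ℤ) - z : ℤ) : ℂ) = (((Nat.card K : ℤ) * ((t : ℤ) - z) : ℤ) : ℂ) := by
    push_cast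
    linear_combination ht
  exact_mod_cast this

theorem Fam.not_valOn {K : Subgroup G} {e n : ℕ} (f : Fam K e n) (i : Fin n) (z : ℤ) :
    ¬ ValOn K (f.μ i) z := by
  intro h
  obtain ⟨a, ha, b, hb, hne⟩ := f.nonconst i
  have h1 := f.val i a ha
  have h2 := f.val i b hb
  rw [h a ha] at h1
  rw [h b hb] at h2
  apply hne
  have hε : (f.ε : ℂ) ≠ 0 := by rcases f.hε with e | e <;> simp [e]
  exact mul_left_cancel₀ hε (by linear_combination h2 - h1)

/-- The members of a family. -/
noncomputable def Fam.range {K : Subgroup G} {e n : ℕ} (f : Fam K e n) : Finset (IrrCharacter G) :=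
  open scoped Classical in Finset.univ.image f.μ

theorem Fam.mem_range {K : Subgroup G} {e n : ℕ} (f : Fam K e n) {ψ : IrrCharacter G} :
    ψ ∈ f.range ↔ ∃ i, f.μ i = ψ := by
  classical simp [Fam.range]

theorem Fam.card_range {K : Subgroup G} {e n : ℕ} (f : Fam K e n) : f.range.card = n := by
  classical simp [Fam.range, Finset.card_image_of_injective _ f.inj]

/-- Two families attached to disjoint subgroups have no common member. -/
theorem Fam.disjoint {K K' : Subgroup G} {e n e' n' : ℕ} (f : Fam K e n) (f' : Fam K' e' n')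
    (hn : 2 ≤ n) (hdisj : ∀ x ∈ punct K', x ∉ conjSet K) (i : Fin n) (l : Fin n') :
    f.μ i ≠ f'.μ l := by
  intro h
  obtain ⟨j, hj⟩ := Fintype.exists_ne_of_one_lt_card (by simp only [Fintype.card_fin]; omega) i
  have hsame : ∀ x ∈ punct K', (f.μ j : G → ℂ) x = (f'.μ l : G → ℂ) x := fun x hx => by
    rw [f.off j i x (hdisj x hx), h]
  by_cases hmem : ∃ l', f.μ j = f'.μ l'
  · obtain ⟨l', hl'⟩ := hmem
    have : l' = l := f'.sep l' l fun x hx => by
      have h1 := hsame x hx
      rw [hl', f'.val l' x hx, f'.val l x hx] at h1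
      have hε : (f'.ε : ℂ) ≠ 0 := by rcases f'.hε with e | e <;> simp [e]
      exact mul_left_cancel₀ hε (by linear_combination h1)
    rw [this, ← h] at hl'
    exact hj (f.inj hl')
  · simp only [not_exists] at hmem
    obtain ⟨z, hz⟩ := f'.other _ hmem
    exact f'.not_valOn l z fun x hx => by rw [← hsame x hx, hz x hx]

/-- The column relation. -/
theorem Fam.column {K : Subgroup G} {e n : ℕ} (f : Fam K e n)
    (hC : ∀ k ∈ K, k ≠ 1 → Subgroup.centralizer ({k} : Set G) = K) (hK : 2 ≤ Nat.card K)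
    (z : IrrCharacter G → ℤ) (hz : ∀ ψ, ψ ∉ f.range → ValOn K ψ (z ψ)) :
    open scoped Classical in
    ∑ ψ ∈ Finset.univ \ f.range, z ψ ^ 2 = (e : ℤ) + 2 * f.ε * f.c - n * f.c ^ 2 := by
  classical
  obtain ⟨k, hk⟩ := punct_nonempty hK
  obtain ⟨hkK, hk1⟩ := mem_punct.mp hk
  have h := sum_irr_mul_conj (G := G) k k
  rw [if_pos (IsConj.refl _), hC k hkK hk1, ← Finset.sum_sdiff (Finset.subset_univ f.range)] at h
  rw [Finset.sum_congr rfl (g := fun ψ => ((z ψ : ℂ)) ^ 2) fun ψ hψ => by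
    rw [hz ψ (Finset.mem_sdiff.mp hψ).2 k hk, map_intCast, sq]] at h
  rw [Fam.range, Finset.sum_image fun a _ b _ hab => f.inj hab] at h
  have hε : (f.ε : ℂ) * f.ε = 1 := by rcases f.hε with e | e <;> simp [e]
  have hi : ∀ i, (f.μ i : G → ℂ) k * conj ((f.μ i : G → ℂ) k) =
      f.S i k * conj (f.S i k) + (f.ε : ℂ) * f.c * f.S i k + (f.ε : ℂ) * f.c * conj (f.S i k) + (f.c : ℂ) ^ 2 := by
    intro i
    rw [f.val i k hk, map_add, map_mul, map_intCast, map_intCast]
    linear_combination (f.S i k * conj (f.S i k)) * hε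
  simp only [hi, Finset.sum_add_distrib, ← Finset.mul_sum, ← map_sum, f.sum_sq k hk, f.sum_col k hk,
    map_neg, map_one, Finset.sum_const, Finset.card_univ, Fintype.card_fin, nsmul_eq_mul] at h
  rw [Fam.range]
  have : ((∑ ψ ∈ Finset.univ \ Finset.univ.image f.μ, z ψ ^ 2 : ℤ) : ℂ) =
      (((e : ℤ) + 2 * f.ε * f.c - n * f.c ^ 2 : ℤ) : ℂ) := by
    push_cast
    linear_combination h
  exact_mod_cast this

/-- The sum of a member over the punctured subgroup. -/
theorem Fam.sum_member {K : Subgroup G} {e n : ℕ} (f : Fam K e n) (i : Fin n) :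
    ∑ k ∈ punct K, (f.μ i : G → ℂ) k =
      -((e : ℂ) * f.ε) + ((Nat.card K : ℂ) - 1) * f.c := by
  rw [Finset.sum_congr rfl (f.val i), Finset.sum_add_distrib, ← Finset.mul_sum, f.sum_row,
    Finset.sum_const, nsmul_eq_mul]
  have hp : ((punct K).card : ℂ) = (Nat.card K : ℂ) - 1 := by
    rw [← card_punct K]; push_cast; ring
  rw [hp]; ring

theorem sum_valOn {K : Subgroup G} {ψ : IrrCharacter G} {z : ℤ} (h : ValOn K ψ z) :
    ∑ k ∈ punct K, (ψ : G → ℂ) k = ((Nat.card K : ℂ) - 1) * z := by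
  rw [Finset.sum_congr rfl h, Finset.sum_const, nsmul_eq_mul]
  have hp : ((punct K).card : ℂ) = (Nat.card K : ℂ) - 1 := by
    rw [← card_punct K]; push_cast; ring
  rw [hp]

/-- A single class of non-trivial elements forces constant integral values. -/
theorem valOn_of_single_class (K : Subgroup G)
    (hC : ∀ k ∈ K, k ≠ 1 → Subgroup.centralizer ({k} : Set G) = K)
    (hN : Nat.card (Subgroup.normalizer (K : Set G)) = (Nat.card K - 1) * Nat.card K)
    (hK : 2 ≤ Nat.card K) (ψ : IrrCharacter G) : ∃ z : ℤ, ValOn K ψ z := by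
  classical
  obtain ⟨k₀, hk₀⟩ := punct_nonempty hK
  obtain ⟨hk₀K, hk₀1⟩ := mem_punct.mp hk₀
  have : Fintype ↥(Subgroup.normalizer (K : Set G)) := Fintype.ofFinite _
  set φ : Subgroup.normalizer (K : Set G) → G := fun x => (x : G) * k₀ * (x : G)⁻¹ with hφ
  have hmaps : ∀ x ∈ (Finset.univ : Finset (Subgroup.normalizer (K : Set G))), φ x ∈ punct K := fun x _ =>
    mem_punct.mpr ⟨(Subgroup.mem_normalizer_iff.mp x.2 k₀).mp hk₀K, fun e => hk₀1 (by simpa [hφ] using e)⟩
  have hfib : ∀ y ∈ Finset.univ.image φ, (Finset.univ.filter fun x => φ x = y).card ≤ Nat.card K := by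
    intro y hy
    obtain ⟨x₀, -, rfl⟩ := Finset.mem_image.mp hy
    rw [← Fintype.card_subtype, ← Nat.card_eq_fintype_card]
    refine Nat.card_le_card_of_injective (fun x => (⟨(x₀ : G)⁻¹ * (x.1 : G), ?_⟩ : K))
      (fun a b h => Subtype.ext (Subtype.ext (mul_left_cancel (congrArg Subtype.val h))))
    refine (SetLike.ext_iff.mp (hC k₀ hk₀K hk₀1) _).mp (Subgroup.mem_centralizer_singleton_iff.mpr ?_)
    have e : (x.1 : G) * k₀ * (x.1 : G)⁻¹ = (x₀ : G) * k₀ * (x₀ : G)⁻¹ := x.2
    calc (x₀ : G)⁻¹ * (x.1 : G) * k₀ = (x₀ : G)⁻¹ * ((x.1 : G) * k₀ * (x.1 : G)⁻¹) * (x.1 : G) := by group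
      _ = _ := by rw [e]; group
  have hcard := Finset.card_le_mul_card_image (s := (Finset.univ : Finset (Subgroup.normalizer (K : Set G))))
    (f := φ) (Nat.card K) hfib
  rw [Finset.card_univ, ← Nat.card_eq_fintype_card, hN, mul_comm] at hcard
  have himg : Finset.univ.image φ = punct K := by
    refine Finset.eq_of_subset_of_card_le (fun y hy => ?_) ?_
    · obtain ⟨x, hx, rfl⟩ := Finset.mem_image.mp hy
      exact hmaps x hx
    · have := Nat.le_of_mul_le_mul_left hcard Nat.card_pos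
      have := card_punct K
      omega
  set v := (ψ : G → ℂ) k₀ with hv
  have hval : ∀ k ∈ punct K, (ψ : G → ℂ) k = v := by
    intro k hk
    rw [← himg] at hk
    obtain ⟨x, -, rfl⟩ := Finset.mem_image.mp hk
    exact isClassFunction_irr ψ.2 k₀ (x : G)
  have : Fintype K := Fintype.ofFinite K
  obtain ⟨t, ht⟩ := classInner_char_nat (isCharacter_restrict (isCharacter_of_irr ψ.2) K)
    (isCharacter_one (G := K))
  simp only [classInner, map_one, mul_one] at ht
  rw [sum_subgroup K (ψ : G → ℂ), Finset.sum_congr rfl hval, Finset.sum_const, nsmul_eq_mul,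
    (charDegree_spec' ψ.2).1] at ht
  have hp : ((punct K).card : ℂ) = (Nat.card K : ℂ) - 1 := by
    rw [← card_punct K]; push_cast; ring
  have hKc : (Nat.card K : ℂ) ≠ 0 := Nat.cast_ne_zero.mpr Nat.card_pos.ne'
  rw [hp, inv_mul_eq_iff_eq_mul₀ hKc] at ht
  have hne : (Nat.card K : ℂ) - 1 ≠ 0 := sub_ne_zero.mpr (by exact_mod_cast (show Nat.card K ≠ 1 by omega))
  have hq : v = (((((Nat.card K : ℚ) * t - charDegree (ψ : G → ℂ)) / ((Nat.card K : ℚ) - 1)) : ℚ) : ℂ) := by
    push_cast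
    rw [eq_div_iff hne]
    linear_combination ht
  have hint : IsIntegral ℤ v := by
    obtain ⟨s, hs, hpow⟩ := exists_roots_pow (isCharacter_of_irr ψ.2) k₀
    have h1 := hpow 1
    simp only [pow_one, Multiset.map_id'] at h1
    rw [hv, h1]
    exact IsIntegral.multiset_sum fun x hx => IsIntegral.of_pow Nat.card_pos (by rw [hs x hx]; exact isIntegral_one)
  rw [hq, show ((((((Nat.card K : ℚ) * t - charDegree (ψ : G → ℂ)) / ((Nat.card K : ℚ) - 1)) : ℚ)) : ℂ) =
    algebraMap ℚ ℂ _ from (eq_ratCast _ _).symm, isIntegral_algebraMap_iff (algebraMap ℚ ℂ).injective] at hint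
  obtain ⟨z, hz⟩ := IsIntegrallyClosed.isIntegral_iff.mp hint
  refine ⟨z, fun k hk => ?_⟩
  rw [hval k hk, hq, ← hz, eq_intCast, Rat.cast_intCast]

end CfsgLib.Suzuki.Degrees
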