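/-
The Steinberg character of a Suzuki group and the decomposition of sums over the group.
-/
import Cfsg.Agent.Lib.Suzuki.Degrees.Columns
import Cfsg.Agent.Lib.Suzuki.Partition
import Cfsg.Agent.Lib.Suzuki.Semisimple
import Cfsg.Agent.S0190
import Cfsg.Agent.Lib.CharTheory.Induced
import Cfsg.Agent.Lib.Blocks.DefectZeroProducts

set_option maxHeartbeats 1000000

namespace CfsgLib.Suzuki.Degrees

open Cfsg CfsgLib.CharTheory CfsgLib.Suzuki
open scoped ComplexConjugate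

variable {F : Type*} [Field F] [Fintype F] {m : ℕ} (hF : Fintype.card F = 2 ^ (2 * m + 1))

set_option quotPrecheck false in
local notation "𝔾" => ↥(Cfsg.Sz F m)

/-- The two Singer tori together with their properties. -/
structure Tori (u : ℕ) where
  hm : 1 ≤ m
  hu : 2 ^ (2 * m + 1) = 8 * u ^ 2
  hr : 2 ^ (m + 1) = 4 * u
  hu2 : 2 ^ (m - 1) = u
  Ap : Subgroup 𝔾
  Am : Subgroup 𝔾
  cp : ∀ a ∈ Ap, a ≠ 1 → Subgroup.centralizer ({a} : Set 𝔾) = Ap
  cm : ∀ a ∈ Am, a ≠ 1 → Subgroup.centralizer ({a} : Set 𝔾) = Am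
  abp : ∀ a ∈ Ap, ∀ b ∈ Ap, a * b = b * a
  abm : ∀ a ∈ Am, ∀ b ∈ Am, a * b = b * a
  np : Nat.card (Subgroup.normalizer (Ap : Set 𝔾)) = 4 * Nat.card Ap
  nm : Nat.card (Subgroup.normalizer (Am : Set 𝔾)) = 4 * Nat.card Am
  fp : ∀ a ∈ Ap, a ≠ 1 → FPF a
  fm : ∀ a ∈ Am, a ≠ 1 → FPF a
  kp : (Nat.card Ap : ℤ) = 8 * u ^ 2 + 4 * u + 1
  km : (Nat.card Am : ℤ) = 8 * u ^ 2 - 4 * u + 1
  all : ∀ z : 𝔾, z ≠ 1 → FPF z → z ∈ conjSet Ap ∨ z ∈ conjSet Am

include hF

theorem exists_tori (hm : 1 ≤ m) : ∃ u : ℕ, 1 ≤ u ∧ Nonempty (Tori (F := F) (m := m) u) := by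
  obtain ⟨Ap, Am, hcp, hp, np, fp, hcm, hmc, nm, fm, hall⟩ := exists_singer hF hm
  obtain ⟨j, rfl⟩ : ∃ j, m = j + 1 := ⟨m - 1, by omega⟩
  have hu : 2 ^ (2 * (j + 1) + 1) = 8 * (2 ^ j) ^ 2 := by rw [← pow_mul]; ring
  have hr : 2 ^ (j + 1 + 1) = 4 * 2 ^ j := by ring
  have hle : 4 * 2 ^ j ≤ 8 * (2 ^ j) ^ 2 := by nlinarith [Nat.one_le_two_pow (n := j)]
  refine ⟨2 ^ j, Nat.one_le_two_pow, ⟨{
    hm := hm
    hu := hu
    hr := hr
    hu2 := by simp
    Ap := Ap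
    Am := Am
    cp := fun a ha h => (fp a ha h).2
    cm := fun a ha h => (fm a ha h).2
    abp := fun a ha b hb => by
      haveI := hcp
      exact congrArg Subtype.val ((IsCyclic.commGroup (α := ↥Ap)).mul_comm ⟨a, ha⟩ ⟨b, hb⟩)
    abm := fun a ha b hb => by
      haveI := hcm
      exact congrArg Subtype.val ((IsCyclic.commGroup (α := ↥Am)).mul_comm ⟨a, ha⟩ ⟨b, hb⟩)
    np := by rw [np, hp]
    nm := by rw [nm, hmc]
    fp := fun a ha h => (fp a ha h).1
    fm := fun a ha h => (fm a ha h).1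
    kp := ?_
    km := ?_
    all := hall }⟩⟩
  · rw [hp, hu, hr]; push_cast; ring
  · rw [hmc, hu, hr]; push_cast [Nat.cast_sub hle]; ring

variable {u : ℕ} (D : Tori (F := F) (m := m) u)

include D

theorem kT : (Nat.card (T hF) : ℤ) = 8 * u ^ 2 - 1 := by
  rw [card_T, D.hu, Nat.cast_sub (by have := D.hu; have := Nat.one_le_two_pow (n := 2 * m + 1); omega)]
  push_cast; ring

theorem hu1 : 1 ≤ u := by rw [← D.hu2]; exact Nat.one_le_two_pow

theorem cT : ∀ a ∈ T hF, a ≠ 1 → Subgroup.centralizer ({a} : Set 𝔾) = T hF := by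
  intro a ha h1
  obtain ⟨t, rfl⟩ := (mem_T hF).mp ha
  exact centralizer_torus hF D.hm fun e => h1 (by rw [e, dS_one])

theorem abT : ∀ a ∈ T hF, ∀ b ∈ T hF, a * b = b * a := by
  intro a ha b hb
  obtain ⟨t, rfl⟩ := (mem_T hF).mp ha
  obtain ⟨s, rfl⟩ := (mem_T hF).mp hb
  rw [dS_mul, dS_mul, mul_comm]

theorem nT : Nat.card (Subgroup.normalizer (T hF : Set 𝔾)) = 2 * Nat.card (T hF) := by
  rw [card_normalizer_T hF D.hm, card_T]

theorem card_G : (Nat.card 𝔾 : ℤ) = (8 * u ^ 2) ^ 2 * ((8 * u ^ 2) ^ 2 + 1) * (8 * u ^ 2 - 1) := by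
  have h := card_Sz hF D.hm
  rw [D.hu] at h
  rw [h, Nat.cast_mul, Nat.cast_sub (by have := hu1 hF D; nlinarith)]
  push_cast; ring

theorem card_U' : (Nat.card (U hF) : ℤ) = (8 * u ^ 2) ^ 2 := by
  rw [card_U, D.hu]; push_cast; ring

theorem disjoint_of_coprime {H K : Subgroup 𝔾} (h : (Nat.card H).Coprime (Nat.card K)) {g : 𝔾}
    (hg : g ∈ conjSet H) : g ∉ conjSet K := fun hg' =>
  hg.1 (orderOf_eq_one_iff.mp (Nat.eq_one_of_dvd_coprimes h (orderOf_dvd_of_conjSet H hg)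
    (orderOf_dvd_of_conjSet K hg')))

theorem coprimes : (Nat.card (U hF)).Coprime (Nat.card (T hF)) ∧ (Nat.card (U hF)).Coprime (Nat.card D.Ap) ∧
    (Nat.card (U hF)).Coprime (Nat.card D.Am) ∧ (Nat.card (T hF)).Coprime (Nat.card D.Ap) ∧
    (Nat.card (T hF)).Coprime (Nat.card D.Am) ∧ (Nat.card D.Ap).Coprime (Nat.card D.Am) := by
  have hle : 4 * u ≤ 8 * u ^ 2 := by have := hu1 hF D; nlinarith
  have hp : Nat.card D.Ap = 2 ^ (2 * m + 1) + 2 ^ (m + 1) + 1 := by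
    rw [D.hu, D.hr]; have := D.kp; exact_mod_cast this
  have hmc : Nat.card D.Am = 2 ^ (2 * m + 1) - 2 ^ (m + 1) + 1 := by
    rw [D.hu, D.hr]
    have := D.km
    have h' : (Nat.card D.Am : ℤ) = ((8 * u ^ 2 - 4 * u + 1 : ℕ) : ℤ) := by
      rw [this]; push_cast [Nat.cast_sub hle]; ring
    exact_mod_cast h'
  rw [card_U, card_T, hp, hmc]
  exact coprime_orders hF D.hm _ _ _ rfl rfl rfl

theorem conjSet_iff (g : 𝔾) : g = 1 ∨ g ∈ conjSet (U hF) ∨ g ∈ conjSet (T hF) ∨ g ∈ conjSet D.Ap ∨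
    g ∈ conjSet D.Am := by
  by_cases h1 : g = 1
  · exact Or.inl h1
  by_cases hf : FPF g
  · exact Or.inr (Or.inr (Or.inr (D.all g h1 hf)))
  · simp only [FPF, not_forall, not_not] at hf
    obtain ⟨p, hp, hgp⟩ := hf
    rcases classify_point hF D.hm h1 hp hgp with h | h
    · exact Or.inr (Or.inl h)
    · exact Or.inr (Or.inr (Or.inl h))

/-- Summation of a class function vanishing on the unipotent elements. -/
theorem sum_group [Fintype 𝔾] [DecidableEq 𝔾] {f : 𝔾 → ℂ} (hf : IsClassFunction 𝔾 f)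
    (hU : ∀ g ∈ conjSet (U hF), f g = 0) :
    ∑ g, f g = f 1 + (Nat.card 𝔾 : ℂ) / (2 * Nat.card (T hF)) * ∑ k ∈ punct (T hF), f k +
      (Nat.card 𝔾 : ℂ) / (4 * Nat.card D.Ap) * ∑ k ∈ punct D.Ap, f k +
      (Nat.card 𝔾 : ℂ) / (4 * Nat.card D.Am) * ∑ k ∈ punct D.Am, f k := by
  classical
  obtain ⟨c1, c2, c3, c4, c5, c6⟩ := coprimes hF D
  have hpt : ∀ g, f g = (if g = 1 then f g else 0) + (if g ∈ conjSet (T hF) then f g else 0) +
      (if g ∈ conjSet D.Ap then f g else 0) + (if g ∈ conjSet D.Am then f g else 0) := by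
    intro g
    rcases conjSet_iff hF D g with rfl | h | h | h | h
    · have n : ∀ K : Subgroup 𝔾, (1 : 𝔾) ∉ conjSet K := fun K h => h.1 rfl
      simp [n]
    · have := disjoint_of_coprime hF D c1 h
      have := disjoint_of_coprime hF D c2 h
      have := disjoint_of_coprime hF D c3 h
      simp [hU g h, *]
    · have := disjoint_of_coprime hF D c4 h
      have := disjoint_of_coprime hF D c5 h
      simp [h.1, h, *]
    · have := disjoint_of_coprime hF D c4.symm h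
      have := disjoint_of_coprime hF D c6 h
      simp [h.1, h, *]
    · have := disjoint_of_coprime hF D c5.symm h
      have := disjoint_of_coprime hF D c6.symm h
      simp [h.1, h, *]
  have key : ∀ (K : Subgroup 𝔾) (e : ℕ), (∀ k ∈ K, k ≠ 1 → Subgroup.centralizer ({k} : Set 𝔾) = K) →
      Nat.card (Subgroup.normalizer (K : Set 𝔾)) = e * Nat.card K → e ≠ 0 →
      ∑ g ∈ Finset.univ.filter (· ∈ conjSet K), f g =
        (Nat.card 𝔾 : ℂ) / ((e : ℂ) * Nat.card K) * ∑ k ∈ punct K, f k := by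
    intro K e hC hN he
    have h := sum_conjSet K hC hf
    rw [hN, Nat.cast_mul] at h
    rw [div_mul_eq_mul_div, eq_div_iff (mul_ne_zero (Nat.cast_ne_zero.mpr he) (Nat.cast_ne_zero.mpr Nat.card_pos.ne'))]
    rw [← h]; ring
  rw [Finset.sum_congr rfl fun g _ => hpt g, Finset.sum_add_distrib, Finset.sum_add_distrib,
    Finset.sum_add_distrib, Finset.sum_ite_eq' Finset.univ (1 : 𝔾), if_pos (Finset.mem_univ _),
    ← Finset.sum_filter, ← Finset.sum_filter, ← Finset.sum_filter, key _ 2 (cT hF D) (nT hF D) two_ne_zero,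
    key _ 4 D.cp D.np (by norm_num), key _ 4 D.cm D.nm (by norm_num)]
  norm_num

theorem gdiv :
    (Nat.card 𝔾 : ℂ) / (2 * Nat.card (T hF)) = (8 * (u : ℂ) ^ 2) ^ 2 * ((8 * (u : ℂ) ^ 2) ^ 2 + 1) / 2 ∧
    (Nat.card 𝔾 : ℂ) / (4 * Nat.card D.Ap) =
      (8 * (u : ℂ) ^ 2) ^ 2 * (8 * (u : ℂ) ^ 2 - 1) * (8 * (u : ℂ) ^ 2 - 4 * u + 1) / 4 ∧
    (Nat.card 𝔾 : ℂ) / (4 * Nat.card D.Am) =
      (8 * (u : ℂ) ^ 2) ^ 2 * (8 * (u : ℂ) ^ 2 - 1) * (8 * (u : ℂ) ^ 2 + 4 * u + 1) / 4 := by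
  have a := congrArg (Int.cast : ℤ → ℂ) (card_G hF D)
  have b := congrArg (Int.cast : ℤ → ℂ) (kT hF D)
  have c := congrArg (Int.cast : ℤ → ℂ) D.kp
  have d := congrArg (Int.cast : ℤ → ℂ) D.km
  push_cast at a b c d
  refine ⟨?_, ?_, ?_⟩
  · rw [div_eq_iff (mul_ne_zero (by norm_num) (Nat.cast_ne_zero.mpr Nat.card_pos.ne')), a, b]; ring
  · rw [div_eq_iff (mul_ne_zero (by norm_num) (Nat.cast_ne_zero.mpr Nat.card_pos.ne')), a, c]; ring
  · rw [div_eq_iff (mul_ne_zero (by norm_num) (Nat.cast_ne_zero.mpr Nat.card_pos.ne')), a, d]; ring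

/-- The Steinberg character. -/
theorem exists_steinberg [Fintype 𝔾] [DecidableEq 𝔾] : ∃ St : IrrCharacter 𝔾,
    (St : 𝔾 → ℂ) 1 = ((8 * u ^ 2) ^ 2 : ℕ) ∧ (∀ g ∈ conjSet (U hF), (St : 𝔾 → ℂ) g = 0) ∧
      ValOn (T hF) St 1 ∧ ValOn D.Ap St (-1) ∧ ValOn D.Am St (-1) := by
  classical
  let Ω : Type _ := ↥(suzukiOvoid F m)
  haveI h2t := two_transitive hF (F := F) (m := m)
  haveI : MulAction.IsPretransitive 𝔾 ↥(suzukiOvoid F m) := by
    exact MulAction.isPretransitive_of_is_two_pretransitive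
  set p₀ : ↥(suzukiOvoid F m) := ⟨suzukiPointInfinity F, inf_mem⟩
  set π : 𝔾 → ℂ := fun g => (Nat.card (MulAction.fixedBy ↥(suzukiOvoid F m) g) : ℂ) with hπ
  have hπ' : π = indFun (MulAction.stabilizer 𝔾 p₀) (fun _ => 1) :=
    Cfsg.Agent.S0190.result ↥(suzukiOvoid F m) p₀
  have : Fintype ↥(MulAction.stabilizer 𝔾 p₀) := Fintype.ofFinite _
  have hchar : IsCharacter 𝔾 π := by rw [hπ']; exact isCharacter_indFun _ isCharacter_one
  have hcl := isClassFunction_char hchar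
  -- values
  have hU : ∀ g ∈ conjSet (U hF), π g = 1 := by
    intro g hg
    obtain ⟨p, hp, hgp, huniq⟩ := unip_fix hF D.hm hg
    have : MulAction.fixedBy ↥(suzukiOvoid F m) g = {⟨p, hp⟩} := by
      ext ⟨r, hr⟩
      simp only [MulAction.mem_fixedBy, Set.mem_singleton_iff, Subtype.ext_iff]
      exact ⟨fun h => huniq r hr h, fun h => by subst h; exact hgp⟩
    simp only [hπ, this]
    simp
  have hT : ∀ k ∈ punct (T hF), π k = 2 := by
    intro k hk
    obtain ⟨hkT, hk1⟩ := mem_punct.mp hk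
    obtain ⟨t, rfl⟩ := (mem_T hF).mp hkT
    have ht : t ≠ 1 := fun e => hk1 (by rw [e, dS_one])
    have hne : suzukiPointInfinity F ≠ suzukiPointZero F := by
      rw [← pt_zero (m := m)]; exact (pt_ne_inf _ _).symm
    have hz : suzukiPointZero F ∈ suzukiOvoid F m := by rw [← pt_zero (m := m)]; exact pt_mem 0 0
    have : MulAction.fixedBy ↥(suzukiOvoid F m) (dS hF t) = {p₀, ⟨suzukiPointZero F, hz⟩} := by
      ext ⟨r, hr⟩
      simp only [MulAction.mem_fixedBy, Set.mem_insert_iff, Set.mem_singleton_iff, Subtype.ext_iff, p₀]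
      constructor
      · exact fun h => fix_torus hF D.hm ht hr h
      · rintro (h | h) <;> subst h
        · exact smul_dS_inf hF t
        · exact smul_dS_zero hF t
    simp only [hπ, this]
    rw [Nat.card_coe_set_eq, Set.ncard_pair fun e => hne (congrArg Subtype.val e)]
    norm_num
  have hA : ∀ A : Subgroup 𝔾, (∀ a ∈ A, a ≠ 1 → FPF a) → ∀ k ∈ punct A, π k = 0 := by
    intro A hfp k hk
    obtain ⟨hkA, hk1⟩ := mem_punct.mp hk
    have : MulAction.fixedBy ↥(suzukiOvoid F m) k = ∅ := by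
      ext ⟨r, hr⟩
      simp only [MulAction.mem_fixedBy, Set.mem_empty_iff_false, iff_false]
      exact fun h => hfp k hkA hk1 r hr (congrArg Subtype.val h)
    simp only [hπ, this]
    simp
  have h1 : π 1 = (((8 * u ^ 2) ^ 2 + 1 : ℕ) : ℂ) := by
    rw [hπ', indFun_apply_one, mul_one, MulAction.index_stabilizer_of_transitive, Nat.card_coe_set_eq]
    congr 1
    rw [← Nat.card_coe_set_eq, card_ovoid, hF, D.hu]
  -- norm one
  set f : 𝔾 → ℂ := fun g => π g - 1 with hf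
  have hfgen : IsGeneralizedCharacter 𝔾 f := ⟨π, fun _ => 1, hchar, isCharacter_one, rfl⟩
  have hreal : ∀ g, conj (f g) = f g := fun g => by simp [hf, hπ]
  have hnorm : classInner f f = 1 := by
    rw [classInner, sum_group hF D (f := fun g => f g * conj (f g)) ?_ ?_]
    · have sT : ∑ k ∈ punct (T hF), f k * conj (f k) = ((punct (T hF)).card : ℂ) := by
        rw [Finset.sum_congr rfl (g := fun _ => (1 : ℂ)) fun k hk => by
          rw [hreal]; simp only [hf, hT k hk]; norm_num]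
        simp
      have sA : ∀ A : Subgroup 𝔾, (∀ a ∈ A, a ≠ 1 → FPF a) →
          ∑ k ∈ punct A, f k * conj (f k) = ((punct A).card : ℂ) := by
        intro A hfp
        rw [Finset.sum_congr rfl (g := fun _ => (1 : ℂ)) fun k hk => by
          rw [hreal]; simp only [hf, hA A hfp k hk]; norm_num]
        simp
      rw [sT, sA D.Ap D.fp, sA D.Am D.fm, hreal]
      simp only [hf, h1]
      have e : ∀ K : Subgroup 𝔾, ((punct K).card : ℂ) = (Nat.card K : ℂ) - 1 := fun K => by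
        rw [← card_punct K]; push_cast; ring
      rw [e, e, e, inv_mul_eq_one₀ (Nat.cast_ne_zero.mpr Nat.card_pos.ne')]
      have a := congrArg (Int.cast : ℤ → ℂ) (card_G hF D)
      have b := congrArg (Int.cast : ℤ → ℂ) (kT hF D)
      have c := congrArg (Int.cast : ℤ → ℂ) D.kp
      have d := congrArg (Int.cast : ℤ → ℂ) D.km
      push_cast at a b c d ⊢
      obtain ⟨g1, g2, g3⟩ := gdiv hF D
      rw [g1, g2, g3, a, b, c, d]
      ring
    · intro g k
      simp only [hf, hcl g k]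
    · intro g hg
      simp [hf, hU g hg]
  rcases irr_or_neg_of_norm_one hfgen hnorm with h | h
  · refine ⟨⟨f, h⟩, ?_, fun g hg => ?_, fun k hk => ?_, fun k hk => ?_, fun k hk => ?_⟩
    · show f 1 = _
      simp only [hf, h1]; push_cast; ring
    · show f g = 0
      simp [hf, hU g hg]
    · show f k = _
      simp only [hf, hT k hk]; norm_num
    · show f k = _
      simp only [hf, hA D.Ap D.fp k hk]; norm_num
    · show f k = _
      simp only [hf, hA D.Am D.fm k hk]; norm_num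
  · exfalso
    obtain ⟨d, -, hd⟩ := irr_degree_pos h
    have hneg : (-f) 1 = -(((8 * u ^ 2) ^ 2 : ℕ) : ℂ) := by
      simp only [Pi.neg_apply, hf, h1]; push_cast; ring
    rw [hneg] at hd
    have h0 : (((d + (8 * u ^ 2) ^ 2 : ℕ)) : ℂ) = 0 := by push_cast at hd ⊢; linear_combination -hd
    have := hu1 hF D
    have h0' : d + (8 * u ^ 2) ^ 2 = 0 := by exact_mod_cast h0
    have : 0 < (8 * u ^ 2) ^ 2 := by positivity
    omega

end CfsgLib.Suzuki.Degrees
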