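/-
The irreducible character degrees of the Suzuki groups.
-/
import Cfsg.Agent.Lib.Suzuki.Degrees.Setup
import Cfsg.Agent.Lib.Suzuki.Degree

set_option maxHeartbeats 6000000

namespace CfsgLib.Suzuki.Degrees

open Cfsg CfsgLib.CharTheory CfsgLib.Suzuki
open scoped ComplexConjugate

variable {F : Type*} [Field F] [Fintype F] {m : ℕ} (hF : Fintype.card F = 2 ^ (2 * m + 1))

set_option quotPrecheck false in
local notation "𝔾" => ↥(Cfsg.Sz F m)

variable {u : ℕ} (D : Tori (F := F) (m := m) u)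

/-- The degree of a character as an integer. -/
noncomputable def deg' {G : Type*} [Group G] (ψ : IrrCharacter G) : ℤ := (charDegree (ψ : G → ℂ) : ℤ)

theorem deg'_spec {G : Type*} [Group G] [Finite G] (ψ : IrrCharacter G) :
    (ψ : G → ℂ) 1 = (deg' ψ : ℂ) ∧ 0 < deg' ψ := by
  refine ⟨?_, ?_⟩
  · rw [(charDegree_spec' ψ.2).1, deg', Int.cast_natCast]
  · unfold deg'; exact_mod_cast (charDegree_spec' ψ.2).2

theorem exists_val {G : Type*} [Group G] [Fintype G] [DecidableEq G] {K : Subgroup G}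
    (R : Finset (IrrCharacter G)) (h : ∀ ψ, ψ ∉ R → ∃ z : ℤ, ValOn K ψ z) :
    ∃ z : IrrCharacter G → ℤ, ∀ ψ, ψ ∉ R → ValOn K ψ (z ψ) := by
  classical
  refine ⟨fun ψ => if hψ : ψ ∈ R then 0 else (h ψ hψ).choose, fun ψ hψ => ?_⟩
  simp only [dif_neg hψ]
  exact (h ψ hψ).choose_spec

theorem val_unique {G : Type*} [Group G] [Fintype G] [DecidableEq G] {K : Subgroup G} (hK : 2 ≤ Nat.card K)
    {ψ : IrrCharacter G} {a b : ℤ} (ha : ValOn K ψ a) (hb : ValOn K ψ b) : a = b := by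
  obtain ⟨k, hk⟩ := punct_nonempty hK
  exact_mod_cast (ha k hk).symm.trans (hb k hk)

theorem cross {G : Type*} [Group G] [Fintype G] [DecidableEq G] {K K' : Subgroup G} {e n : ℕ}
    (f : Fam K e n) (hK' : 2 ≤ Nat.card K') (hdisj : ∀ x ∈ punct K', x ∉ conjSet K)
    {z : IrrCharacter G → ℤ} (hz : ∀ i, ValOn K' (f.μ i) (z (f.μ i))) (i j : Fin n) :
    z (f.μ i) = z (f.μ j) :=
  val_unique hK' (hz i) fun k hk => by rw [f.off i j k (hdisj k hk)]; exact hz j k hk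

theorem not_sq_two {a b : ℕ} (hb : 0 < b) : a ^ 2 ≠ 2 * b ^ 2 := by
  intro h
  have := congrArg (fun n => n.factorization 2) h
  simp only [Nat.factorization_mul two_ne_zero (pow_ne_zero 2 hb.ne'), Nat.factorization_pow,
    Finsupp.coe_add, Pi.add_apply, Finsupp.coe_smul, Pi.smul_apply, smul_eq_mul,
    Nat.prime_two.factorization_self] at this
  omega

/-- The list of degrees. -/
def degs (u : ℤ) : Finset ℤ :=
  {1, (8 * u ^ 2) ^ 2, (8 * u ^ 2) ^ 2 + 1, (8 * u ^ 2 - 1) * (8 * u ^ 2 - 4 * u + 1),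
    (8 * u ^ 2 - 1) * (8 * u ^ 2 + 4 * u + 1), 2 * u * (8 * u ^ 2 - 1)}

include hF D

theorem card_ge : 2 ≤ Nat.card (T hF) ∧ 2 ≤ Nat.card D.Ap ∧ 2 ≤ Nat.card D.Am := by
  have hu : (1 : ℤ) ≤ u := by exact_mod_cast hu1 hF D
  refine ⟨?_, ?_, ?_⟩
  · have := kT hF D
    have : (2 : ℤ) ≤ (Nat.card (T hF) : ℤ) := by nlinarith
    exact_mod_cast this
  · have := D.kp
    have : (2 : ℤ) ≤ (Nat.card D.Ap : ℤ) := by nlinarith
    exact_mod_cast this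
  · have := D.km
    have : (2 : ℤ) ≤ (Nat.card D.Am : ℤ) := by nlinarith
    exact_mod_cast this

variable [Fintype ↥(Cfsg.Sz F m)] [DecidableEq ↥(Cfsg.Sz F m)]

theorem punct_disj : (∀ x ∈ punct (T hF), x ∉ conjSet D.Ap) ∧ (∀ x ∈ punct (T hF), x ∉ conjSet D.Am) ∧
    (∀ x ∈ punct D.Ap, x ∉ conjSet (T hF)) ∧ (∀ x ∈ punct D.Ap, x ∉ conjSet D.Am) ∧
    (∀ x ∈ punct D.Am, x ∉ conjSet (T hF)) ∧ (∀ x ∈ punct D.Am, x ∉ conjSet D.Ap) := by
  classical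
  have mem : ∀ K : Subgroup 𝔾, ∀ x : 𝔾, x ∈ K ∧ x ≠ 1 → x ∈ conjSet K := fun K x h =>
    ⟨h.2, 1, by simpa using h.1⟩
  obtain ⟨c1, c2, c3, c4, c5, c6⟩ := coprimes hF D
  exact ⟨fun x hx => disjoint_of_coprime hF D c4 (mem _ x (mem_punct.mp hx)),
    fun x hx => disjoint_of_coprime hF D c5 (mem _ x (mem_punct.mp hx)),
    fun x hx => disjoint_of_coprime hF D c4.symm (mem _ x (mem_punct.mp hx)),
    fun x hx => disjoint_of_coprime hF D c6 (mem _ x (mem_punct.mp hx)),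
    fun x hx => disjoint_of_coprime hF D c5.symm (mem _ x (mem_punct.mp hx)),
    fun x hx => disjoint_of_coprime hF D c6.symm (mem _ x (mem_punct.mp hx))⟩

/-- A non-trivial character has large degree. -/
theorem deg_bound {ψ : IrrCharacter 𝔾} (h : (ψ : 𝔾 → ℂ) ≠ fun _ => 1) :
    2 * (u : ℤ) * (8 * u ^ 2 - 1) ≤ deg' ψ := by
  have hspec := (charDegree_spec' ψ.2).1
  obtain ⟨n, ρ, hρ, hψ⟩ := ψ.2
  have hn : charDegree (ψ : 𝔾 → ℂ) = n := by
    rw [← hψ, ρ.char_one, Module.finrank_fin_fun] at hspec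
    rw [← hψ]
    exact_mod_cast hspec.symm
  by_cases ht : ∀ g, ρ g = 1
  · exfalso
    have hconst : ∀ g, (ψ : 𝔾 → ℂ) g = (n : ℂ) := fun g => by
      rw [← hψ, Representation.character, ht g, LinearMap.trace_one, Module.finrank_fin_fun]
    have h1 := classInner_irr_self ψ.2
    simp only [classInner, hconst, Complex.conj_natCast, Finset.sum_const, Finset.card_univ, nsmul_eq_mul] at h1
    rw [← Nat.card_eq_fintype_card, inv_mul_cancel_left₀ (Nat.cast_ne_zero.mpr Nat.card_pos.ne')] at h1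
    have : n * n = 1 := by exact_mod_cast h1
    have hn1 : n = 1 := Nat.eq_one_of_mul_eq_one_right this
    exact h (funext fun g => by rw [hconst g, hn1, Nat.cast_one])
  · have hb := degree_bound hF D.hm ρ ht
    rw [Module.finrank_fin_fun, D.hu] at hb
    have h2m : 2 ^ m = 2 * u := by
      rw [← D.hu2, ← pow_succ']; congr 1; have := D.hm; omega
    rw [h2m] at hb
    have hle : 1 ≤ 8 * u ^ 2 := by have := hu1 hF D; nlinarith
    unfold deg'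
    rw [hn]
    have : ((2 * u * (8 * u ^ 2 - 1) : ℕ) : ℤ) ≤ (n : ℤ) := by exact_mod_cast hb
    push_cast [Nat.cast_sub hle] at this
    exact this

/-- Orthogonality with the Steinberg character. -/
theorem orth {St ψ : IrrCharacter 𝔾} (hne : ψ ≠ St)
    (s1 : (St : 𝔾 → ℂ) 1 = ((8 * u ^ 2) ^ 2 : ℕ)) (sU : ∀ g ∈ conjSet (U hF), (St : 𝔾 → ℂ) g = 0)
    (sT : ValOn (T hF) St 1) (sp : ValOn D.Ap St (-1)) (sm : ValOn D.Am St (-1)) :
    (deg' ψ : ℂ) * (8 * (u : ℂ) ^ 2) ^ 2 +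
      (8 * (u : ℂ) ^ 2) ^ 2 * ((8 * (u : ℂ) ^ 2) ^ 2 + 1) / 2 * ∑ k ∈ punct (T hF), (ψ : 𝔾 → ℂ) k -
      (8 * (u : ℂ) ^ 2) ^ 2 * (8 * (u : ℂ) ^ 2 - 1) * (8 * (u : ℂ) ^ 2 - 4 * u + 1) / 4 *
        ∑ k ∈ punct D.Ap, (ψ : 𝔾 → ℂ) k -
      (8 * (u : ℂ) ^ 2) ^ 2 * (8 * (u : ℂ) ^ 2 - 1) * (8 * (u : ℂ) ^ 2 + 4 * u + 1) / 4 *
        ∑ k ∈ punct D.Am, (ψ : 𝔾 → ℂ) k = 0 := by
  classical
  have h := classInner_irr_ne ψ.2 St.2 fun e => hne (Subtype.ext e)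
  rw [classInner, mul_eq_zero] at h
  have h := h.resolve_left (inv_ne_zero (Nat.cast_ne_zero.mpr Nat.card_pos.ne'))
  rw [sum_group hF D (f := fun g => (ψ : 𝔾 → ℂ) g * conj ((St : 𝔾 → ℂ) g))
    (fun g k => by simp only [isClassFunction_irr ψ.2 g k, isClassFunction_irr St.2 g k])
    (fun g hg => by simp [sU g hg])] at h
  obtain ⟨g1, g2, g3⟩ := gdiv hF D
  rw [g1, g2, g3] at h
  simp only [s1, (deg'_spec ψ).1, Complex.conj_natCast] at h
  rw [Finset.sum_congr rfl (g := fun k => (ψ : 𝔾 → ℂ) k) fun k hk => by rw [sT k hk]; simp,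
    Finset.sum_congr (s₁ := punct D.Ap) rfl (g := fun k => -(ψ : 𝔾 → ℂ) k) fun k hk => by rw [sp k hk]; simp,
    Finset.sum_congr (s₁ := punct D.Am) rfl (g := fun k => -(ψ : 𝔾 → ℂ) k) fun k hk => by rw [sm k hk]; simp,
    Finset.sum_neg_distrib, Finset.sum_neg_distrib] at h
  push_cast at h
  linear_combination h

/-- The two remaining characters take the values `1` and `-1` on the Singer tori. -/
theorem pm {St ψ : IrrCharacter 𝔾} {zp zm : ℤ} (hne : ψ ≠ St)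
    (s1 : (St : 𝔾 → ℂ) 1 = ((8 * u ^ 2) ^ 2 : ℕ)) (sU : ∀ g ∈ conjSet (U hF), (St : 𝔾 → ℂ) g = 0)
    (sT : ValOn (T hF) St 1) (sp : ValOn D.Ap St (-1)) (sm : ValOn D.Am St (-1))
    (hd : deg' ψ = 2 * (u : ℤ) * (8 * u ^ 2 - 1)) (h0 : ValOn (T hF) ψ 0) (hzp : ValOn D.Ap ψ zp)
    (hzm : ValOn D.Am ψ zm) (bp : zp ^ 2 ≤ 3) (bm : zm ^ 2 ≤ 3) : zp = 1 ∧ zm = -1 := by
  have h := orth hF D hne s1 sU sT sp sm
  rw [sum_valOn h0, sum_valOn hzp, sum_valOn hzm, hd] at h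
  have kP := congrArg (Int.cast : ℤ → ℂ) D.kp
  have kM := congrArg (Int.cast : ℤ → ℂ) D.km
  push_cast at kP kM h
  rw [kP, kM] at h
  have hu := hu1 hF D
  have hu0 : (u : ℂ) ≠ 0 := by exact_mod_cast (show u ≠ 0 by omega)
  have hq : (8 * (u : ℂ) ^ 2 - 1) ≠ 0 := by
    intro e
    have : ((8 * (u : ℤ) ^ 2 - 1 : ℤ) : ℂ) = ((0 : ℤ) : ℂ) := by push_cast; exact e
    have h' : (8 * (u : ℤ) ^ 2 - 1) = 0 := by exact_mod_cast this
    nlinarith
  have hne0 : (8 * (u : ℂ) ^ 2) ^ 2 * (8 * (u : ℂ) ^ 2 - 1) ≠ 0 :=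
    mul_ne_zero (pow_ne_zero _ (mul_ne_zero (by norm_num) (pow_ne_zero _ hu0))) hq
  have h' : 2 * (u : ℂ) = (8 * (u : ℂ) ^ 2 - 4 * u + 1) * (2 * (u : ℂ) ^ 2 + u) * zp +
      (8 * (u : ℂ) ^ 2 + 4 * u + 1) * (2 * (u : ℂ) ^ 2 - u) * zm := by
    apply mul_left_cancel₀ hne0
    linear_combination h
  have hZ : 2 * (u : ℤ) = (8 * (u : ℤ) ^ 2 - 4 * u + 1) * (2 * (u : ℤ) ^ 2 + u) * zp +
      (8 * (u : ℤ) ^ 2 + 4 * u + 1) * (2 * (u : ℤ) ^ 2 - u) * zm := by exact_mod_cast h'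
  have hu' : (1 : ℤ) ≤ u := by exact_mod_cast hu
  have X1 : 2 * (u : ℤ) < (8 * (u : ℤ) ^ 2 - 4 * u + 1) * (2 * (u : ℤ) ^ 2 + u) := by
    nlinarith [mul_le_mul (show (5 : ℤ) ≤ 8 * (u : ℤ) ^ 2 - 4 * u + 1 by nlinarith)
      (show (u : ℤ) ≤ 2 * (u : ℤ) ^ 2 + u by nlinarith) (by linarith) (by nlinarith)]
  have X2 : 2 * (u : ℤ) < (8 * (u : ℤ) ^ 2 + 4 * u + 1) * (2 * (u : ℤ) ^ 2 - u) := by
    nlinarith [mul_le_mul (show (5 : ℤ) ≤ 8 * (u : ℤ) ^ 2 + 4 * u + 1 by nlinarith)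
      (show (u : ℤ) ≤ 2 * (u : ℤ) ^ 2 - u by nlinarith) (by linarith) (by nlinarith)]
  have a1 : -1 ≤ zp := by nlinarith
  have a2 : zp ≤ 1 := by nlinarith
  have b1 : -1 ≤ zm := by nlinarith
  have b2 : zm ≤ 1 := by nlinarith
  interval_cases zp <;> interval_cases zm <;>
    first
      | exact ⟨rfl, rfl⟩
      | (exfalso; nlinarith)

/-- The data of the character table used below. -/
structure Table where
  one : IrrCharacter 𝔾
  St : IrrCharacter 𝔾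
  a : IrrCharacter 𝔾
  b : IrrCharacter 𝔾
  R0 : Finset (IrrCharacter 𝔾)
  Rp : Finset (IrrCharacter 𝔾)
  Rm : Finset (IrrCharacter 𝔾)
  split : ∀ f : IrrCharacter 𝔾 → ℂ, ∑ ψ, f ψ =
    f one + f St + ∑ ψ ∈ R0, f ψ + ∑ ψ ∈ Rp, f ψ + ∑ ψ ∈ Rm, f ψ + (f a + f b)
  n0 : (R0.card : ℤ) = 4 * u ^ 2 - 1
  np : (Rp.card : ℤ) = 2 * u ^ 2 + u
  nm : (Rm.card : ℤ) = 2 * u ^ 2 - u
  one_val : (one : 𝔾 → ℂ) = fun _ => 1
  done' : deg' one = 1
  dSt : deg' St = (8 * (u : ℤ) ^ 2) ^ 2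
  d0 : ∀ ψ ∈ R0, deg' ψ = (8 * (u : ℤ) ^ 2) ^ 2 + 1
  dp : ∀ ψ ∈ Rp, deg' ψ = (8 * (u : ℤ) ^ 2 - 1) * (8 * (u : ℤ) ^ 2 - 4 * u + 1)
  dm : ∀ ψ ∈ Rm, deg' ψ = (8 * (u : ℤ) ^ 2 - 1) * (8 * (u : ℤ) ^ 2 + 4 * u + 1)
  dO : ∀ ψ ∈ ({a, b} : Set (IrrCharacter 𝔾)), deg' ψ = 2 * (u : ℤ) * (8 * u ^ 2 - 1)
  StU : ∀ g ∈ conjSet (U hF), (St : 𝔾 → ℂ) g = 0
  StT : ValOn (T hF) St 1
  StP : ValOn D.Ap St (-1)
  StM : ValOn D.Am St (-1)
  zT : ∀ ψ, ψ ∈ Rp ∨ ψ ∈ Rm ∨ ψ = a ∨ ψ = b → ValOn (T hF) ψ 0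
  zP : ∀ ψ, ψ ∈ R0 ∨ ψ ∈ Rm → ValOn D.Ap ψ 0
  zM : ∀ ψ, ψ ∈ R0 ∨ ψ ∈ Rp → ValOn D.Am ψ 0
  OP : ∀ ψ ∈ ({a, b} : Set (IrrCharacter 𝔾)), ValOn D.Ap ψ 1
  OM : ∀ ψ ∈ ({a, b} : Set (IrrCharacter 𝔾)), ValOn D.Am ψ (-1)
  sum0 : ∀ k ∈ punct (T hF), ∑ ψ ∈ R0, (ψ : 𝔾 → ℂ) k = -1
  sump : ∀ k ∈ punct D.Ap, ∑ ψ ∈ Rp, (ψ : 𝔾 → ℂ) k = 1
  summ : ∀ k ∈ punct D.Am, ∑ ψ ∈ Rm, (ψ : 𝔾 → ℂ) k = 1
  sq0 : ∀ k ∈ punct (T hF), ∑ ψ ∈ R0, (ψ : 𝔾 → ℂ) k * conj ((ψ : 𝔾 → ℂ) k) = (Nat.card (T hF) : ℂ) - 2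
  sqp : ∀ k ∈ punct D.Ap, ∑ ψ ∈ Rp, (ψ : 𝔾 → ℂ) k * conj ((ψ : 𝔾 → ℂ) k) = (Nat.card D.Ap : ℂ) - 4
  sqm : ∀ k ∈ punct D.Am, ∑ ψ ∈ Rm, (ψ : 𝔾 → ℂ) k * conj ((ψ : 𝔾 → ℂ) k) = (Nat.card D.Am : ℂ) - 4
  const0 : ∀ ψ ∈ R0, ∀ φ ∈ R0, ∀ x, x ∉ conjSet (T hF) → (ψ : 𝔾 → ℂ) x = (φ : 𝔾 → ℂ) x
  constp : ∀ ψ ∈ Rp, ∀ φ ∈ Rp, ∀ x, x ∉ conjSet D.Ap → (ψ : 𝔾 → ℂ) x = (φ : 𝔾 → ℂ) x
  constm : ∀ ψ ∈ Rm, ∀ φ ∈ Rm, ∀ x, x ∉ conjSet D.Am → (ψ : 𝔾 → ℂ) x = (φ : 𝔾 → ℂ) x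

theorem sum_sq : ∑ ψ : IrrCharacter 𝔾, deg' ψ ^ 2 =
    (8 * (u : ℤ) ^ 2) ^ 2 * ((8 * (u : ℤ) ^ 2) ^ 2 + 1) * (8 * (u : ℤ) ^ 2 - 1) := by
  have h := sum_irr_degree_sq (G := 𝔾)
  simp only [(deg'_spec _).1] at h
  rw [← card_G hF D]
  exact_mod_cast h

omit hF D in
/-- Sums over a family with trivial constant. -/
theorem fam_sums {G : Type*} [Group G] [Fintype G] [DecidableEq G] {K : Subgroup G} {e n : ℕ}
    (f : Fam K e n) (hc : f.c = 0) {k : G} (hk : k ∈ punct K) :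
    ∑ ψ ∈ f.range, (ψ : G → ℂ) k = -(f.ε : ℂ) ∧
      ∑ ψ ∈ f.range, (ψ : G → ℂ) k * conj ((ψ : G → ℂ) k) = (Nat.card K : ℂ) - e := by
  classical
  rw [Fam.range, Finset.sum_image fun a _ b _ h => f.inj h, Finset.sum_image fun a _ b _ h => f.inj h]
  refine ⟨?_, ?_⟩
  · simp only [f.val _ k hk, hc, Int.cast_zero, add_zero, ← Finset.mul_sum, f.sum_col k hk]
    ring
  · rw [← f.sum_sq k hk]
    refine Finset.sum_congr rfl fun i _ => ?_
    rw [f.val i k hk, hc, Int.cast_zero, add_zero, map_mul, map_intCast]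
    have hε : (f.ε : ℂ) * f.ε = 1 := by rcases f.hε with e | e <;> simp [e]
    linear_combination (f.S i k * conj (f.S i k)) * hε

/-- The facts used about the Steinberg character and the first two families. -/
theorem base : ∃ (St one : IrrCharacter 𝔾) (n0 np : ℕ) (f0 : Fam (T hF) 2 n0) (fp : Fam D.Ap 4 np),
    (n0 : ℤ) = 4 * u ^ 2 - 1 ∧ (np : ℤ) = 2 * u ^ 2 + u ∧
    (one : 𝔾 → ℂ) = (fun _ => 1) ∧ (St : 𝔾 → ℂ) 1 = ((8 * u ^ 2) ^ 2 : ℕ) ∧
    (∀ g ∈ conjSet (U hF), (St : 𝔾 → ℂ) g = 0) ∧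
    ValOn (T hF) St 1 ∧ ValOn D.Ap St (-1) ∧ ValOn D.Am St (-1) ∧ one ≠ St ∧
    one ∉ f0.range ∧ St ∉ f0.range ∧ one ∉ fp.range ∧ St ∉ fp.range ∧ Disjoint f0.range fp.range ∧
    f0.c = 0 ∧ (∀ ψ, ψ ∉ f0.range → ψ ≠ one → ψ ≠ St → ValOn (T hF) ψ 0) := by
  classical
  obtain ⟨St, s1, sU, sT, sp, sm⟩ := exists_steinberg hF D
  obtain ⟨kT2, kp2, km2⟩ := card_ge hF D
  have hu := hu1 hF D
  have hsq : 1 ≤ 4 * u ^ 2 := by nlinarith
  have c0 : (4 * u ^ 2 - 1) * 2 + 1 = Nat.card (T hF) := by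
    have := kT hF D
    have : (((4 * u ^ 2 - 1) * 2 + 1 : ℕ) : ℤ) = (Nat.card (T hF) : ℤ) := by
      rw [this]; push_cast [Nat.cast_sub hsq]; ring
    exact_mod_cast this
  have cp : (2 * u ^ 2 + u) * 4 + 1 = Nat.card D.Ap := by
    have := D.kp
    have : (((2 * u ^ 2 + u) * 4 + 1 : ℕ) : ℤ) = (Nat.card D.Ap : ℤ) := by
      rw [this]; push_cast; ring
    exact_mod_cast this
  have hn0 : 3 ≤ 4 * u ^ 2 - 1 := by have : 1 ≤ u ^ 2 := Nat.one_le_pow _ _ hu; omega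
  obtain ⟨f0⟩ := exists_fam (T hF) (abT hF D) (cT hF D) 2 _ (nT hF D) le_rfl (by omega) c0
  obtain ⟨fp⟩ := exists_fam D.Ap D.abp D.cp 4 _ D.np (by norm_num) (by nlinarith) cp
  obtain ⟨d1, d2, d3, d4, d5, d6⟩ := punct_disj hF D
  let one : IrrCharacter 𝔾 := ⟨fun _ => 1, isIrrCharacter_one⟩
  have vone : ∀ K : Subgroup 𝔾, ValOn K one 1 := fun K k _ => by simp [one]
  have hne : one ≠ St := fun e => by
    have := congrArg (fun ψ : IrrCharacter 𝔾 => (ψ : 𝔾 → ℂ) 1) e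
    simp only [one, s1] at this
    have h' : 1 = (8 * u ^ 2) ^ 2 := by exact_mod_cast this
    have h1 : 1 ≤ u ^ 2 := Nat.one_le_pow _ _ hu
    nlinarith
  have nmem : ∀ {K : Subgroup 𝔾} {e n : ℕ} (f : Fam K e n) {ψ : IrrCharacter 𝔾} {z : ℤ},
      ValOn K ψ z → ψ ∉ f.range := fun f ψ z hz h => by
    obtain ⟨i, rfl⟩ := f.mem_range.mp h
    exact f.not_valOn i z hz
  have dis : Disjoint f0.range fp.range := by
    rw [Finset.disjoint_left]
    intro ψ h h'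
    obtain ⟨i, rfl⟩ := f0.mem_range.mp h
    obtain ⟨j, hj⟩ := fp.mem_range.mp h'
    exact f0.disjoint fp (by omega) d3 i j hj.symm
  obtain ⟨z, hz⟩ := exists_val f0.range fun ψ hψ => f0.other ψ fun i e => hψ (f0.mem_range.mpr ⟨i, e.symm⟩)
  have hcol := f0.column (cT hF D) kT2 z hz
  have hz1 : z one = 1 := val_unique kT2 (hz _ (nmem f0 (vone _))) (vone _)
  have hzS : z St = 1 := val_unique kT2 (hz _ (nmem f0 sT)) sT
  have hsub : ({one, St} : Finset (IrrCharacter 𝔾)) ⊆ Finset.univ \ f0.range := by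
    intro ψ h
    rcases Finset.mem_insert.mp h with rfl | h
    · simpa using nmem f0 (vone (T hF))
    · rw [Finset.mem_singleton] at h; subst h; simpa using nmem f0 sT
  rw [← Finset.sum_sdiff hsub, Finset.sum_pair hne, hz1, hzS] at hcol
  have hnonneg : ∀ ψ ∈ (Finset.univ \ f0.range) \ {one, St}, 0 ≤ z ψ ^ 2 := fun ψ _ => sq_nonneg _
  have hS := Finset.sum_nonneg hnonneg
  have hn3 : (3 : ℤ) ≤ ((4 * u ^ 2 - 1 : ℕ) : ℤ) := by exact_mod_cast hn0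
  have hc : f0.c = 0 := by
    by_contra hc0
    have h1c : 1 ≤ |f0.c| := Int.one_le_abs hc0
    have h2c : |f0.c| ^ 2 = f0.c ^ 2 := sq_abs _
    have h3c : f0.ε * f0.c ≤ |f0.c| := by
      rcases f0.hε with e | e <;> rw [e]
      · rw [one_mul]; exact le_abs_self _
      · rw [neg_one_mul]; exact neg_le_abs _
    have h4c := mul_le_mul_of_nonneg_right hn3 (sq_nonneg f0.c)
    push_cast at hcol
    nlinarith
  have hzero := (Finset.sum_eq_zero_iff_of_nonneg hnonneg).mp (by rw [hc] at hcol; push_cast at hcol ⊢; linarith)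
  refine ⟨St, one, _, _, f0, fp, by push_cast [Nat.cast_sub hsq]; ring, by push_cast; ring, rfl, s1, sU, sT,
    sp, sm, hne, nmem f0 (vone _), nmem f0 sT, nmem fp (vone _), nmem fp sp, dis, hc, fun ψ h1 h2 h3 => ?_⟩
  have := hzero ψ (by simp [h1, h2, h3])
  have h0 : z ψ = 0 := by simpa using this
  exact h0 ▸ hz ψ h1

/-- The table for `q ≥ 32`. -/
theorem table_big (h2u : 2 ≤ u) : Nonempty (Table hF D) := by
  classical
  obtain ⟨St, one, n0, np, f0, fp, en0, enp, h1, s1, sU, sT, sp, sm, hne, o0, S0, op, Sp, dis0p, hc0, hzero⟩ := base hF D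
  obtain ⟨kT2, kp2, km2⟩ := card_ge hF D
  obtain ⟨d1, d2, d3, d4, d5, d6⟩ := punct_disj hF D
  have huZ : (2 : ℤ) ≤ u := by exact_mod_cast h2u
  have hle : u ≤ 2 * u ^ 2 := by nlinarith
  have cm : (2 * u ^ 2 - u) * 4 + 1 = Nat.card D.Am := by
    have := D.km
    have : (((2 * u ^ 2 - u) * 4 + 1 : ℕ) : ℤ) = (Nat.card D.Am : ℤ) := by
      rw [this]; push_cast [Nat.cast_sub hle]; ring
    exact_mod_cast this
  have enm : ((2 * u ^ 2 - u : ℕ) : ℤ) = 2 * u ^ 2 - u := by push_cast [Nat.cast_sub hle]; ring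
  have hnm6 : 6 ≤ 2 * u ^ 2 - u := by
    have : (6 : ℤ) ≤ ((2 * u ^ 2 - u : ℕ) : ℤ) := by rw [enm]; nlinarith
    exact_mod_cast this
  obtain ⟨fm⟩ := exists_fam D.Am D.abm D.cm 4 _ D.nm (by norm_num) (by omega) cm
  have hn0 : (15 : ℤ) ≤ n0 := by rw [en0]; nlinarith
  have hnp : (10 : ℤ) ≤ np := by rw [enp]; nlinarith
  have hn02 : 2 ≤ n0 := by omega
  have hnp2 : 2 ≤ np := by omega
  have vone : ∀ K : Subgroup 𝔾, ValOn K one 1 := fun K k _ => by simp [h1]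
  have nmem : ∀ {K : Subgroup 𝔾} {e n : ℕ} (f : Fam K e n) {ψ : IrrCharacter 𝔾} {z : ℤ},
      ValOn K ψ z → ψ ∉ f.range := fun f ψ z hz h => by
    obtain ⟨i, rfl⟩ := f.mem_range.mp h
    exact f.not_valOn i z hz
  have dis0m : Disjoint f0.range fm.range := by
    rw [Finset.disjoint_left]
    intro ψ h h'
    obtain ⟨i, rfl⟩ := f0.mem_range.mp h
    obtain ⟨j, hj⟩ := fm.mem_range.mp h'
    exact f0.disjoint fm hn02 d5 i j hj.symm
  have dispm : Disjoint fp.range fm.range := by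
    rw [Finset.disjoint_left]
    intro ψ h h'
    obtain ⟨i, rfl⟩ := fp.mem_range.mp h
    obtain ⟨j, hj⟩ := fm.mem_range.mp h'
    exact fp.disjoint fm hnp2 d6 i j hj.symm
  have om := nmem fm (vone D.Am)
  have Sm := nmem fm sm
  set O := Finset.univ \ (({one, St} : Finset (IrrCharacter 𝔾)) ∪ f0.range ∪ fp.range ∪ fm.range) with hO
  have hsplit : ∀ g : IrrCharacter 𝔾 → ℤ, ∑ ψ, g ψ =
      g one + g St + ∑ ψ ∈ f0.range, g ψ + ∑ ψ ∈ fp.range, g ψ + ∑ ψ ∈ fm.range, g ψ + ∑ ψ ∈ O, g ψ := by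
    intro g
    rw [hO, ← Finset.sum_sdiff (Finset.subset_univ
      (({one, St} : Finset (IrrCharacter 𝔾)) ∪ f0.range ∪ fp.range ∪ fm.range)),
      Finset.sum_union, Finset.sum_union, Finset.sum_union, Finset.sum_pair hne]
    · ring
    · simp [Finset.disjoint_left, o0, S0]
    · simp only [Finset.disjoint_union_left]
      exact ⟨by simp [Finset.disjoint_left, op, Sp], dis0p⟩
    · simp only [Finset.disjoint_union_left]
      exact ⟨⟨by simp [Finset.disjoint_left, om, Sm], dis0m⟩, dispm⟩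
  have hsd : ∀ (R : Finset (IrrCharacter 𝔾)) (g : IrrCharacter 𝔾 → ℤ),
      ∑ ψ ∈ Finset.univ \ R, g ψ = ∑ ψ, g ψ - ∑ ψ ∈ R, g ψ := fun R g =>
    eq_sub_of_add_eq (Finset.sum_sdiff (Finset.subset_univ R))
  obtain ⟨zp, hzp⟩ := exists_val fp.range fun ψ hψ => fp.other ψ fun i e => hψ (fp.mem_range.mpr ⟨i, e.symm⟩)
  obtain ⟨zm, hzm⟩ := exists_val fm.range fun ψ hψ => fm.other ψ fun i e => hψ (fm.mem_range.mpr ⟨i, e.symm⟩)
  obtain ⟨i0⟩ : Nonempty (Fin n0) := ⟨⟨0, by omega⟩⟩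
  obtain ⟨ip⟩ : Nonempty (Fin np) := ⟨⟨0, by omega⟩⟩
  obtain ⟨im⟩ : Nonempty (Fin (2 * u ^ 2 - u)) := ⟨⟨0, by omega⟩⟩
  have mem0 : ∀ i, f0.μ i ∈ f0.range := fun i => f0.mem_range.mpr ⟨i, rfl⟩
  have memp : ∀ i, fp.μ i ∈ fp.range := fun i => fp.mem_range.mpr ⟨i, rfl⟩
  have memm : ∀ i, fm.μ i ∈ fm.range := fun i => fm.mem_range.mpr ⟨i, rfl⟩
  have sumR : ∀ {K : Subgroup 𝔾} {e n : ℕ} (f : Fam K e n) (g : IrrCharacter 𝔾 → ℤ) (a : ℤ),
      (∀ i, g (f.μ i) = a) → ∑ ψ ∈ f.range, g ψ = (n : ℤ) * a := by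
    intro K e n f g a h
    rw [Finset.sum_congr rfl (g := fun _ => a) fun ψ hψ => by
      obtain ⟨i, rfl⟩ := f.mem_range.mp hψ
      exact h i, Finset.sum_const, f.card_range, nsmul_eq_mul]
  have hz0p : ∀ i, ValOn D.Ap (f0.μ i) (zp (f0.μ i)) := fun i =>
    hzp _ (Finset.disjoint_left.mp dis0p (mem0 i))
  have hzmp : ∀ i, ValOn D.Ap (fm.μ i) (zp (fm.μ i)) := fun i =>
    hzp _ (Finset.disjoint_right.mp dispm (memm i))
  have hz0m : ∀ i, ValOn D.Am (f0.μ i) (zm (f0.μ i)) := fun i =>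
    hzm _ (Finset.disjoint_left.mp dis0m (mem0 i))
  have hzpm : ∀ i, ValOn D.Am (fp.μ i) (zm (fp.μ i)) := fun i =>
    hzm _ (Finset.disjoint_left.mp dispm (memp i))
  have colp := fp.column D.cp kp2 zp hzp
  rw [hsd, hsplit, val_unique kp2 (hzp _ op) (vone _), val_unique kp2 (hzp _ Sp) sp,
    sumR f0 (fun ψ => zp ψ ^ 2) (zp (f0.μ i0) ^ 2) (fun i => by simp only [cross f0 kp2 d3 hz0p i i0]),
    sumR fm (fun ψ => zp ψ ^ 2) (zp (fm.μ im) ^ 2) (fun i => by simp only [cross fm kp2 d4 hzmp i im])] at colp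
  have colm := fm.column D.cm km2 zm hzm
  rw [hsd, hsplit, val_unique km2 (hzm _ om) (vone _), val_unique km2 (hzm _ Sm) sm,
    sumR f0 (fun ψ => zm ψ ^ 2) (zm (f0.μ i0) ^ 2) (fun i => by simp only [cross f0 km2 d5 hz0m i i0]),
    sumR fp (fun ψ => zm ψ ^ 2) (zm (fp.μ ip) ^ 2) (fun i => by simp only [cross fp km2 d6 hzpm i ip])] at colm
  have hOp : 0 ≤ ∑ ψ ∈ O, zp ψ ^ 2 := Finset.sum_nonneg fun ψ _ => sq_nonneg _
  have hOm : 0 ≤ ∑ ψ ∈ O, zm ψ ^ 2 := Finset.sum_nonneg fun ψ _ => sq_nonneg _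
  have hnm : (6 : ℤ) ≤ ((2 * u ^ 2 - u : ℕ) : ℤ) := by exact_mod_cast hnm6
  have kill : ∀ (n n' n'' ε c a b S : ℤ), 6 ≤ n → 6 ≤ n' → 6 ≤ n'' → (ε = 1 ∨ ε = -1) → 0 ≤ S →
      1 + 1 + n' * a ^ 2 + n'' * b ^ 2 + S = 4 + 2 * ε * c - n * c ^ 2 → c = 0 ∧ a = 0 ∧ b = 0 := by
    intro n n' n'' ε c a b S hn hn' hn'' hε hS h
    have ha := mul_le_mul_of_nonneg_right hn' (sq_nonneg a)
    have hb := mul_le_mul_of_nonneg_right hn'' (sq_nonneg b)
    have hcn := mul_le_mul_of_nonneg_right hn (sq_nonneg c)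
    have hc : c = 0 := by
      rcases lt_trichotomy c 0 with hc | hc | hc
      · exfalso; rcases hε with e | e <;> subst e <;> nlinarith
      · exact hc
      · exfalso; rcases hε with e | e <;> subst e <;> nlinarith
    subst hc
    refine ⟨rfl, ?_, ?_⟩ <;> by_contra hne0
    · have : 0 < a ^ 2 := by positivity
      nlinarith
    · have : 0 < b ^ 2 := by positivity
      nlinarith
  obtain ⟨hcp, ha0p, hamp⟩ := kill np n0 ((2 * u ^ 2 - u : ℕ) : ℤ) fp.ε fp.c (zp (f0.μ i0)) (zp (fm.μ im)) _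
    (by linarith) (by linarith) hnm fp.hε hOp (by push_cast at colp ⊢; linarith)
  obtain ⟨hcm, ha0m, hapm⟩ := kill ((2 * u ^ 2 - u : ℕ) : ℤ) n0 np fm.ε fm.c (zm (f0.μ i0)) (zm (fp.μ ip)) _
    hnm (by linarith) (by linarith) fm.hε hOm (by push_cast at colm ⊢; linarith)
  have zero_sum : ∀ {K : Subgroup 𝔾} {ψ : IrrCharacter 𝔾}, ValOn K ψ 0 → ∑ k ∈ punct K, (ψ : 𝔾 → ℂ) k = 0 := by
    intro K ψ h
    rw [sum_valOn h]; simp
  have hu0 : (8 * (u : ℂ) ^ 2) ^ 2 ≠ 0 := by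
    have : (u : ℂ) ≠ 0 := by exact_mod_cast (show u ≠ 0 by omega)
    exact pow_ne_zero _ (mul_ne_zero (by norm_num) (pow_ne_zero _ this))
  -- degrees of the families
  have deg0' : ∀ i, deg' (f0.μ i) = (8 * (u : ℤ) ^ 2) ^ 2 + 1 ∧ f0.ε = 1 := by
    intro i
    have h := orth hF D (fun e : f0.μ i = St => S0 (e ▸ mem0 i)) s1 sU sT sp sm
    rw [f0.sum_member, hc0, zero_sum (ha0p ▸ (cross f0 kp2 d3 hz0p i i0) ▸ hz0p i),
      zero_sum (ha0m ▸ (cross f0 km2 d5 hz0m i i0) ▸ hz0m i)] at h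
    have h' : (8 * (u : ℂ) ^ 2) ^ 2 * ((deg' (f0.μ i) : ℂ) - (f0.ε : ℂ) * ((8 * (u : ℂ) ^ 2) ^ 2 + 1)) = 0 := by
      push_cast at h
      linear_combination h
    have h'' : deg' (f0.μ i) = f0.ε * ((8 * (u : ℤ) ^ 2) ^ 2 + 1) := by
      exact_mod_cast sub_eq_zero.mp ((mul_eq_zero.mp h').resolve_left hu0)
    rcases f0.hε with e | e <;> rw [e] at h''
    · exact ⟨by linarith, e⟩
    · exfalso; have := (deg'_spec (f0.μ i)).2; nlinarith
  have deg0 := fun i => (deg0' i).1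
  have degp' : ∀ i, deg' (fp.μ i) = (8 * (u : ℤ) ^ 2 - 1) * (8 * (u : ℤ) ^ 2 - 4 * u + 1) ∧ fp.ε = -1 := by
    intro i
    have h := orth hF D (fun e : fp.μ i = St => Sp (e ▸ memp i)) s1 sU sT sp sm
    rw [fp.sum_member, hcp, zero_sum (hzero _ (Finset.disjoint_right.mp dis0p (memp i))
        (fun e => op (e ▸ memp i)) (fun e => Sp (e ▸ memp i))),
      zero_sum (hapm ▸ (cross fp km2 d6 hzpm i ip) ▸ hzpm i)] at h
    have h' : (8 * (u : ℂ) ^ 2) ^ 2 * ((deg' (fp.μ i) : ℂ) -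
        -(fp.ε : ℂ) * ((8 * (u : ℂ) ^ 2 - 1) * (8 * (u : ℂ) ^ 2 - 4 * u + 1))) = 0 := by
      push_cast at h
      linear_combination h
    have h'' : deg' (fp.μ i) = -fp.ε * ((8 * (u : ℤ) ^ 2 - 1) * (8 * (u : ℤ) ^ 2 - 4 * u + 1)) := by
      exact_mod_cast sub_eq_zero.mp ((mul_eq_zero.mp h').resolve_left hu0)
    have hX : 0 < (8 * (u : ℤ) ^ 2 - 1) * (8 * (u : ℤ) ^ 2 - 4 * u + 1) := mul_pos (by nlinarith) (by nlinarith)
    rcases fp.hε with e | e <;> rw [e] at h''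
    · exfalso; have := (deg'_spec (fp.μ i)).2; linarith
    · exact ⟨by linarith, e⟩
  have degp := fun i => (degp' i).1
  have degm' : ∀ i, deg' (fm.μ i) = (8 * (u : ℤ) ^ 2 - 1) * (8 * (u : ℤ) ^ 2 + 4 * u + 1) ∧ fm.ε = -1 := by
    intro i
    have h := orth hF D (fun e : fm.μ i = St => Sm (e ▸ memm i)) s1 sU sT sp sm
    rw [fm.sum_member, hcm, zero_sum (hzero _ (Finset.disjoint_right.mp dis0m (memm i))
        (fun e => om (e ▸ memm i)) (fun e => Sm (e ▸ memm i))),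
      zero_sum (hamp ▸ (cross fm kp2 d4 hzmp i im) ▸ hzmp i)] at h
    have h' : (8 * (u : ℂ) ^ 2) ^ 2 * ((deg' (fm.μ i) : ℂ) -
        -(fm.ε : ℂ) * ((8 * (u : ℂ) ^ 2 - 1) * (8 * (u : ℂ) ^ 2 + 4 * u + 1))) = 0 := by
      push_cast at h
      linear_combination h
    have h'' : deg' (fm.μ i) = -fm.ε * ((8 * (u : ℤ) ^ 2 - 1) * (8 * (u : ℤ) ^ 2 + 4 * u + 1)) := by
      exact_mod_cast sub_eq_zero.mp ((mul_eq_zero.mp h').resolve_left hu0)
    have hX : 0 < (8 * (u : ℤ) ^ 2 - 1) * (8 * (u : ℤ) ^ 2 + 4 * u + 1) := mul_pos (by nlinarith) (by nlinarith)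
    rcases fm.hε with e | e <;> rw [e] at h''
    · exfalso; have := (deg'_spec (fm.μ i)).2; linarith
    · exact ⟨by linarith, e⟩
  have degm := fun i => (degm' i).1
  have dOne : deg' one = 1 := by
    have := (deg'_spec one).1
    rw [h1] at this
    simp only at this
    exact_mod_cast this.symm
  have dSt : deg' St = (8 * (u : ℤ) ^ 2) ^ 2 := by
    have := (deg'_spec St).1
    rw [s1] at this
    exact_mod_cast this.symm
  have hsq := sum_sq hF D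
  rw [hsplit fun ψ => deg' ψ ^ 2, dOne, dSt, sumR f0 (fun ψ => deg' ψ ^ 2) _ (fun i => by rw [deg0 i]),
    sumR fp (fun ψ => deg' ψ ^ 2) _ (fun i => by rw [degp i]),
    sumR fm (fun ψ => deg' ψ ^ 2) _ (fun i => by rw [degm i]), en0, enp, enm] at hsq
  set Dd : ℤ := 2 * u * (8 * u ^ 2 - 1) with hDd
  have hrem : ∑ ψ ∈ O, deg' ψ ^ 2 = 2 * Dd ^ 2 := by rw [hDd]; linear_combination hsq
  have hDpos : 0 < Dd := by rw [hDd]; exact mul_pos (by linarith) (by nlinarith)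
  have hge : ∀ ψ ∈ O, Dd ≤ deg' ψ := fun ψ hψ => deg_bound hF D fun e => by
    have : ψ = one := Subtype.ext (e.trans h1.symm)
    simp [hO, this] at hψ
  have hOeq : O.Nonempty ∧ ∀ ψ ∈ O, deg' ψ = Dd := by
    have hOne : O.Nonempty := by
      rw [Finset.nonempty_iff_ne_empty]
      intro e
      rw [e, Finset.sum_empty] at hrem
      nlinarith
    refine ⟨hOne, ?_⟩
    obtain ⟨a, ha⟩ := hOne
    have hrest : (O.erase a).Nonempty := by
      rw [Finset.nonempty_iff_ne_empty]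
      intro e
      rw [← Finset.add_sum_erase O _ ha, e, Finset.sum_empty, add_zero] at hrem
      have h1' := hge a ha
      obtain ⟨d, hd⟩ := Int.eq_ofNat_of_zero_le (by linarith : 0 ≤ deg' a)
      obtain ⟨b, hb⟩ := Int.eq_ofNat_of_zero_le hDpos.le
      rw [hd, hb] at hrem
      exact not_sq_two (by omega : 0 < b) (by exact_mod_cast hrem)
    intro ψ hψ
    obtain ⟨χ, hχ, hne'⟩ : ∃ χ ∈ O, χ ≠ ψ := by
      obtain ⟨b, hb⟩ := hrest
      rw [Finset.mem_erase] at hb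
      by_cases hab : a = ψ
      · exact ⟨b, hb.2, hab ▸ hb.1⟩
      · exact ⟨a, ha, hab⟩
    have h2 : deg' ψ ^ 2 + deg' χ ^ 2 ≤ 2 * Dd ^ 2 := by
      rw [← hrem, ← Finset.sum_pair (f := fun x => deg' x ^ 2) hne'.symm]
      exact Finset.sum_le_sum_of_subset_of_nonneg (by simp [Finset.insert_subset_iff, hψ, hχ])
        fun _ _ _ => sq_nonneg _
    nlinarith [hge ψ hψ, hge χ hχ]
  have hε0 : f0.ε = 1 := (deg0' i0).2
  have hεp : fp.ε = -1 := (degp' ip).2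
  have hεm : fm.ε = -1 := (degm' im).2
  have hcard : O.card = 2 := by
    have hs : ∑ ψ ∈ O, deg' ψ ^ 2 = (O.card : ℤ) * Dd ^ 2 := by
      rw [Finset.sum_congr rfl (g := fun _ => Dd ^ 2) fun ψ hψ => by rw [hOeq.2 ψ hψ], Finset.sum_const,
        nsmul_eq_mul]
    rw [hrem] at hs
    exact_mod_cast (mul_right_cancel₀ (pow_ne_zero 2 hDpos.ne') hs).symm
  obtain ⟨a, b, hab, hO2⟩ := Finset.card_eq_two.mp hcard
  have hmem : ∀ ψ, ψ = a ∨ ψ = b → ψ ∈ O := by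
    rintro ψ (rfl | rfl) <;> simp [hO2]
  have hnot : ∀ ψ ∈ O, ψ ≠ one ∧ ψ ≠ St ∧ ψ ∉ f0.range ∧ ψ ∉ fp.range ∧ ψ ∉ fm.range := by
    intro ψ hψ
    simpa [hO, and_assoc] using hψ
  have hSp2 : ∑ ψ ∈ O, zp ψ ^ 2 = 2 := by
    rw [hcp, ha0p, hamp] at colp; push_cast at colp ⊢; linarith
  have hSm2 : ∑ ψ ∈ O, zm ψ ^ 2 = 2 := by
    rw [hcm, ha0m, hapm] at colm; push_cast at colm ⊢; linarith
  have hpm : ∀ ψ, ψ = a ∨ ψ = b → ValOn D.Ap ψ 1 ∧ ValOn D.Am ψ (-1) := by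
    intro ψ hψ
    obtain ⟨a1, a2, a3, a4, a5⟩ := hnot ψ (hmem ψ hψ)
    have hbp : zp ψ ^ 2 ≤ 3 := by
      have := Finset.single_le_sum (f := fun ψ => zp ψ ^ 2) (fun ψ _ => sq_nonneg _) (hmem ψ hψ)
      linarith
    have hbm : zm ψ ^ 2 ≤ 3 := by
      have := Finset.single_le_sum (f := fun ψ => zm ψ ^ 2) (fun ψ _ => sq_nonneg _) (hmem ψ hψ)
      linarith
    obtain ⟨e1, e2⟩ := pm hF D a2 s1 sU sT sp sm (hOeq.2 ψ (hmem ψ hψ)) (hzero ψ a3 a1 a2)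
      (hzp ψ a4) (hzm ψ a5) hbp hbm
    exact ⟨e1 ▸ hzp ψ a4, e2 ▸ hzm ψ a5⟩
  have hsplitC : ∀ g : IrrCharacter 𝔾 → ℂ, ∑ ψ, g ψ =
      g one + g St + ∑ ψ ∈ f0.range, g ψ + ∑ ψ ∈ fp.range, g ψ + ∑ ψ ∈ fm.range, g ψ + (g a + g b) := by
    intro g
    rw [← Finset.sum_pair hab, ← hO2, hO, ← Finset.sum_sdiff (Finset.subset_univ
      (({one, St} : Finset (IrrCharacter 𝔾)) ∪ f0.range ∪ fp.range ∪ fm.range)),
      Finset.sum_union, Finset.sum_union, Finset.sum_union, Finset.sum_pair hne]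
    · ring
    · simp [Finset.disjoint_left, o0, S0]
    · simp only [Finset.disjoint_union_left]
      exact ⟨by simp [Finset.disjoint_left, op, Sp], dis0p⟩
    · simp only [Finset.disjoint_union_left]
      exact ⟨⟨by simp [Finset.disjoint_left, om, Sm], dis0m⟩, dispm⟩
  exact ⟨{
    one := one, St := St, a := a, b := b, R0 := f0.range, Rp := fp.range, Rm := fm.range
    split := hsplitC
    n0 := by rw [f0.card_range]; exact en0
    np := by rw [fp.card_range]; exact enp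
    nm := by rw [fm.card_range]; exact enm
    one_val := h1
    done' := dOne
    dSt := dSt
    d0 := fun ψ h => by obtain ⟨i, rfl⟩ := f0.mem_range.mp h; exact deg0 i
    dp := fun ψ h => by obtain ⟨i, rfl⟩ := fp.mem_range.mp h; exact degp i
    dm := fun ψ h => by obtain ⟨i, rfl⟩ := fm.mem_range.mp h; exact degm i
    dO := fun ψ h => hOeq.2 ψ (hmem ψ h)
    StU := sU, StT := sT, StP := sp, StM := sm
    zT := by
      rintro ψ (h | h | h)
      · exact hzero ψ (Finset.disjoint_right.mp dis0p h) (fun e => op (e ▸ h)) (fun e => Sp (e ▸ h))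
      · exact hzero ψ (Finset.disjoint_right.mp dis0m h) (fun e => om (e ▸ h)) (fun e => Sm (e ▸ h))
      · obtain ⟨a1, a2, a3, -, -⟩ := hnot ψ (hmem ψ h)
        exact hzero ψ a3 a1 a2
    zP := by
      rintro ψ (h | h)
      · obtain ⟨i, rfl⟩ := f0.mem_range.mp h
        exact ha0p ▸ (cross f0 kp2 d3 hz0p i i0) ▸ hz0p i
      · obtain ⟨i, rfl⟩ := fm.mem_range.mp h
        exact hamp ▸ (cross fm kp2 d4 hzmp i im) ▸ hzmp i
    zM := by
      rintro ψ (h | h)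
      · obtain ⟨i, rfl⟩ := f0.mem_range.mp h
        exact ha0m ▸ (cross f0 km2 d5 hz0m i i0) ▸ hz0m i
      · obtain ⟨i, rfl⟩ := fp.mem_range.mp h
        exact hapm ▸ (cross fp km2 d6 hzpm i ip) ▸ hzpm i
    OP := fun ψ h => (hpm ψ h).1
    OM := fun ψ h => (hpm ψ h).2
    sum0 := fun k hk => by rw [(fam_sums f0 hc0 hk).1, hε0]; norm_num
    sump := fun k hk => by rw [(fam_sums fp hcp hk).1, hεp]; norm_num
    summ := fun k hk => by rw [(fam_sums fm hcm hk).1, hεm]; norm_num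
    sq0 := fun k hk => by rw [(fam_sums f0 hc0 hk).2]; norm_num
    sqp := fun k hk => by rw [(fam_sums fp hcp hk).2]; norm_num
    sqm := fun k hk => by rw [(fam_sums fm hcm hk).2]; norm_num
    const0 := fun ψ h φ h' x hx => by
      obtain ⟨i, rfl⟩ := f0.mem_range.mp h; obtain ⟨j, rfl⟩ := f0.mem_range.mp h'; exact f0.off i j x hx
    constp := fun ψ h φ h' x hx => by
      obtain ⟨i, rfl⟩ := fp.mem_range.mp h; obtain ⟨j, rfl⟩ := fp.mem_range.mp h'; exact fp.off i j x hx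
    constm := fun ψ h φ h' x hx => by
      obtain ⟨i, rfl⟩ := fm.mem_range.mp h; obtain ⟨j, rfl⟩ := fm.mem_range.mp h'; exact fm.off i j x hx }⟩

/-- The table for `q = 8`. -/
theorem table_small (h1u : u = 1) : Nonempty (Table hF D) := by
  classical
  subst h1u
  obtain ⟨St, one, n0, np, f0, fp, en0, enp, h1, s1, sU, sT, sp, sm, hne, o0, S0, op, Sp, dis0p, hc0, hzero⟩ := base hF D
  obtain ⟨kT2, kp2, km2⟩ := card_ge hF D
  obtain ⟨d1, d2, d3, d4, d5, d6⟩ := punct_disj hF D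
  norm_num at en0 enp
  obtain rfl : n0 = 3 := by omega
  obtain rfl : np = 3 := by omega
  have kT7 : Nat.card (T hF) = 7 := by
    have : ((Nat.card (T hF) : ℕ) : ℤ) = ((7 : ℕ) : ℤ) := by rw [kT hF D]; norm_num
    exact_mod_cast this
  have kA : Nat.card D.Am = 5 := by
    have : ((Nat.card D.Am : ℕ) : ℤ) = ((5 : ℕ) : ℤ) := by rw [D.km]; norm_num
    exact_mod_cast this
  have kP : Nat.card D.Ap = 13 := by
    have : ((Nat.card D.Ap : ℕ) : ℤ) = ((13 : ℕ) : ℤ) := by rw [D.kp]; norm_num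
    exact_mod_cast this
  have kG : (Nat.card 𝔾 : ℤ) = 29120 := by
    rw [card_G hF D]; norm_num
  have vone : ∀ K : Subgroup 𝔾, ValOn K one 1 := fun K k _ => by simp [h1]
  have hall : ∀ ψ : IrrCharacter 𝔾, ∃ z : ℤ, ValOn D.Am ψ z :=
    valOn_of_single_class D.Am D.cm (by rw [D.nm, kA]) km2
  choose zm hzm using hall
  have colm : ∑ ψ, zm ψ ^ 2 = 5 := by
    obtain ⟨k, hk⟩ := punct_nonempty km2
    obtain ⟨hkK, hk1⟩ := mem_punct.mp hk
    have h := sum_irr_mul_conj (G := 𝔾) k k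
    rw [if_pos (IsConj.refl _), D.cm k hkK hk1, kA] at h
    rw [Finset.sum_congr rfl (g := fun ψ => ((zm ψ : ℂ)) ^ 2) fun ψ _ => by
      rw [hzm ψ k hk, map_intCast, sq]] at h
    exact_mod_cast h
  obtain ⟨zp, hzp⟩ := exists_val fp.range fun ψ hψ => fp.other ψ fun i e => hψ (fp.mem_range.mpr ⟨i, e.symm⟩)
  set O := Finset.univ \ (({one, St} : Finset (IrrCharacter 𝔾)) ∪ f0.range ∪ fp.range) with hO
  have hsplit : ∀ g : IrrCharacter 𝔾 → ℤ, ∑ ψ, g ψ =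
      g one + g St + ∑ ψ ∈ f0.range, g ψ + ∑ ψ ∈ fp.range, g ψ + ∑ ψ ∈ O, g ψ := by
    intro g
    rw [hO, ← Finset.sum_sdiff (Finset.subset_univ
      (({one, St} : Finset (IrrCharacter 𝔾)) ∪ f0.range ∪ fp.range)),
      Finset.sum_union, Finset.sum_union, Finset.sum_pair hne]
    · ring
    · simp [Finset.disjoint_left, o0, S0]
    · simp only [Finset.disjoint_union_left]
      exact ⟨by simp [Finset.disjoint_left, op, Sp], dis0p⟩
  have hmemO : ∀ ψ ∈ O, ψ ≠ one ∧ ψ ≠ St ∧ ψ ∉ f0.range ∧ ψ ∉ fp.range := by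
    intro ψ hψ
    simpa [hO, and_assoc] using hψ
  have sumR : ∀ {K : Subgroup 𝔾} {e n : ℕ} (f : Fam K e n) (g : IrrCharacter 𝔾 → ℤ) (a : ℤ),
      (∀ i, g (f.μ i) = a) → ∑ ψ ∈ f.range, g ψ = (n : ℤ) * a := by
    intro K e n f g a h
    rw [Finset.sum_congr rfl (g := fun _ => a) fun ψ hψ => by
      obtain ⟨i, rfl⟩ := f.mem_range.mp hψ
      exact h i, Finset.sum_const, f.card_range, nsmul_eq_mul]
  have mem0 : ∀ i, f0.μ i ∈ f0.range := fun i => f0.mem_range.mpr ⟨i, rfl⟩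
  have memp : ∀ i, fp.μ i ∈ fp.range := fun i => fp.mem_range.mpr ⟨i, rfl⟩
  have hz0p : ∀ i, ValOn D.Ap (f0.μ i) (zp (f0.μ i)) := fun i =>
    hzp _ (Finset.disjoint_left.mp dis0p (mem0 i))
  have hw0 : ∀ i, zm (f0.μ i) = zm (f0.μ 0) := fun i => cross f0 km2 d5 (fun i => hzm _) i 0
  have hwp : ∀ i, zm (fp.μ i) = zm (fp.μ 0) := fun i => cross fp km2 d6 (fun i => hzm _) i 0
  have ha : ∀ i, zp (f0.μ i) = zp (f0.μ 0) := fun i => cross f0 kp2 d3 hz0p i 0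
  rw [hsplit, val_unique km2 (hzm one) (vone _), val_unique km2 (hzm St) sm,
    sumR f0 (fun ψ => zm ψ ^ 2) (zm (f0.μ 0) ^ 2) (fun i => by simp only [hw0 i]),
    sumR fp (fun ψ => zm ψ ^ 2) (zm (fp.μ 0) ^ 2) (fun i => by simp only [hwp i])] at colm
  have colp := fp.column D.cp kp2 zp hzp
  rw [eq_sub_of_add_eq (Finset.sum_sdiff (f := fun ψ => zp ψ ^ 2) (Finset.subset_univ fp.range)), hsplit,
    val_unique kp2 (hzp _ op) (vone _), val_unique kp2 (hzp _ Sp) sp,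
    sumR f0 (fun ψ => zp ψ ^ 2) (zp (f0.μ 0) ^ 2) (fun i => by simp only [ha i])] at colp
  push_cast at colp colm
  have hSm : 0 ≤ ∑ ψ ∈ O, zm ψ ^ 2 := Finset.sum_nonneg fun ψ _ => sq_nonneg _
  have hSp : 0 ≤ ∑ ψ ∈ O, zp ψ ^ 2 := Finset.sum_nonneg fun ψ _ => sq_nonneg _
  have hc1 : fp.c = 0 ∨ fp.c = fp.ε := by
    have hb : -1 ≤ fp.c ∧ fp.c ≤ 1 := by
      rcases fp.hε with e | e <;> rw [e] at colp <;> constructor <;>
        nlinarith [sq_nonneg (zp (f0.μ 0)), sq_nonneg (fp.c - 1), sq_nonneg (fp.c + 1)]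
    obtain ⟨hb1, hb2⟩ := hb
    rcases fp.hε with e | e <;> rw [e] at colp ⊢ <;> interval_cases fp.c <;>
      first
        | exact Or.inl rfl
        | exact Or.inr rfl
        | (exfalso; nlinarith [sq_nonneg (zp (f0.μ 0))])
  have ha0 : zp (f0.μ 0) = 0 := by
    by_contra h
    have : 0 < zp (f0.μ 0) ^ 2 := lt_of_le_of_ne (sq_nonneg _) (Ne.symm (pow_ne_zero 2 h))
    rcases hc1 with e | e <;> rcases fp.hε with e' | e' <;> rw [e, e'] at colp <;> nlinarith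
  have hdvd : ∀ ψ : IrrCharacter 𝔾, deg' ψ ∣ (29120 : ℤ) := fun ψ => by
    rw [← kG]
    exact Int.natCast_dvd_natCast.mpr (CfsgLib.Blocks.charDegree_dvd_card ψ)
  set w0 := zm (f0.μ 0) with hw0def
  set wp := zm (fp.μ 0) with hwpdef
  have deg0 : ∀ i, deg' (f0.μ i) = 65 * f0.ε + 91 * w0 := by
    intro i
    have h := orth hF D (fun e : f0.μ i = St => S0 (e ▸ mem0 i)) s1 sU sT sp sm
    rw [f0.sum_member, hc0, sum_valOn (hz0p i), ha i, ha0, sum_valOn (hzm _), hw0 i, kT7, kA, kP] at h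
    have h' : (deg' (f0.μ i) : ℂ) = 65 * (f0.ε : ℂ) + 91 * (w0 : ℂ) := by
      push_cast at h
      linear_combination h / 64
    exact_mod_cast h'
  have degp : ∀ i, deg' (fp.μ i) = -35 * fp.ε + 105 * fp.c + 91 * wp := by
    intro i
    have h := orth hF D (fun e : fp.μ i = St => Sp (e ▸ memp i)) s1 sU sT sp sm
    rw [fp.sum_member, sum_valOn (hzero _ (Finset.disjoint_right.mp dis0p (memp i))
        (fun e => op (e ▸ memp i)) (fun e => Sp (e ▸ memp i))), sum_valOn (hzm _), hwp i, kT7, kA, kP] at h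
    have h' : (deg' (fp.μ i) : ℂ) = -35 * (fp.ε : ℂ) + 105 * (fp.c : ℂ) + 91 * (wp : ℂ) := by
      push_cast at h
      linear_combination h / 64
    exact_mod_cast h'
  have hw1 : w0 ^ 2 + wp ^ 2 ≤ 1 := by linarith
  have hwb : -1 ≤ w0 ∧ w0 ≤ 1 ∧ -1 ≤ wp ∧ wp ≤ 1 := by
    refine ⟨?_, ?_, ?_, ?_⟩ <;> nlinarith [sq_nonneg w0, sq_nonneg wp]
  obtain ⟨b1, b2, b3, b4⟩ := hwb
  have hd0 : deg' (f0.μ 0) = 65 ∧ w0 = 0 ∨ deg' (f0.μ 0) = 26 ∧ w0 ≠ 0 := by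
    have hp := (deg'_spec (f0.μ 0)).2
    have hd := hdvd (f0.μ 0)
    have he := deg0 0
    rcases f0.hε with e | e <;> rw [e] at he <;> interval_cases w0 <;> rw [he] at hp hd ⊢ <;>
      first | omega | (norm_num at hd; done) | norm_num
  have hdp : deg' (fp.μ 0) = 35 ∧ wp = 0 ∧ fp.c = 0 ∧ fp.ε = -1 ∨ deg' (fp.μ 0) = 70 ∧ wp = 0 ∨
      deg' (fp.μ 0) = 56 ∧ wp ≠ 0 := by
    have hp := (deg'_spec (fp.μ 0)).2
    have hd := hdvd (fp.μ 0)
    have he := degp 0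
    rcases hc1 with ec | ec <;> rcases fp.hε with e | e <;> rw [ec] at he ⊢ <;> rw [e] at he ⊢ <;>
      interval_cases wp <;> rw [he] at hp hd ⊢ <;>
      first | omega | (norm_num at hd; done) | norm_num
  have dOne : deg' one = 1 := by
    have := (deg'_spec one).1
    rw [h1] at this
    simp only at this
    exact_mod_cast this.symm
  have dSt : deg' St = 64 := by
    have := (deg'_spec St).1
    rw [s1] at this
    exact_mod_cast this.symm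
  have hsq := sum_sq hF D
  rw [hsplit fun ψ => deg' ψ ^ 2, dOne, dSt,
    sumR f0 (fun ψ => deg' ψ ^ 2) (deg' (f0.μ 0) ^ 2) (fun i => by simp only [deg0 i, deg0 0]),
    sumR fp (fun ψ => deg' ψ ^ 2) (deg' (fp.μ 0) ^ 2) (fun i => by simp only [degp i, degp 0])] at hsq
  push_cast at hsq
  have h7 : ∀ ψ ∈ O, (7 : ℤ) ∣ deg' ψ := by
    intro ψ hψ
    obtain ⟨a, b, c, -⟩ := hmemO ψ hψ
    have h := card_dvd_sub (T hF) (hzero ψ c a b)
    rw [kT7, sub_zero] at h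
    exact h
  have h35 : (w0 ≠ 0 ∨ wp ≠ 0) → (1225 : ℤ) ∣ ∑ ψ ∈ O, deg' ψ ^ 2 := by
    intro hw
    have hpos : 1 ≤ w0 ^ 2 + wp ^ 2 := by
      rcases hw with h | h
      · have : 0 < w0 ^ 2 := lt_of_le_of_ne (sq_nonneg _) (Ne.symm (pow_ne_zero 2 h))
        nlinarith [sq_nonneg wp]
      · have : 0 < wp ^ 2 := lt_of_le_of_ne (sq_nonneg _) (Ne.symm (pow_ne_zero 2 h))
        nlinarith [sq_nonneg w0]
    have hz := (Finset.sum_eq_zero_iff_of_nonneg (s := O) (fun ψ _ => sq_nonneg (zm ψ))).mp (by linarith)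
    refine Finset.dvd_sum fun ψ hψ => ?_
    have h5 := card_dvd_sub D.Am (hzm ψ)
    rw [kA, pow_eq_zero_iff two_ne_zero |>.mp (hz ψ hψ), sub_zero] at h5
    have h35' : (35 : ℤ) ∣ deg' ψ := by
      have a5 : (5 : ℤ) ∣ deg' ψ := h5
      have a7 := h7 ψ hψ
      omega
    exact (pow_dvd_pow_of_dvd h35' 2)
  have hR : 0 ≤ ∑ ψ ∈ O, deg' ψ ^ 2 := Finset.sum_nonneg fun ψ _ => sq_nonneg _
  obtain ⟨e0, ep, hpc, hpε⟩ : deg' (f0.μ 0) = 65 ∧ deg' (fp.μ 0) = 35 ∧ fp.c = 0 ∧ fp.ε = -1 := by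
    rcases hd0 with ⟨e0, ew0⟩ | ⟨e0, ew0⟩ <;>
      rcases hdp with ⟨ep, ewp, hc, hε⟩ | ⟨ep, ewp⟩ | ⟨ep, ewp⟩ <;>
      rw [e0, ep] at hsq <;> norm_num at hsq
    · exact ⟨e0, ep, hc, hε⟩
    · exfalso; linarith
    · exfalso; obtain ⟨t, ht⟩ := h35 (Or.inr ewp); omega
    · exfalso; obtain ⟨t, ht⟩ := h35 (Or.inl ew0); omega
    · exfalso; obtain ⟨t, ht⟩ := h35 (Or.inl ew0); omega
    · exfalso; obtain ⟨t, ht⟩ := h35 (Or.inl ew0); omega
  rw [e0, ep] at hsq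
  norm_num at hsq
  have hrem : ∑ ψ ∈ O, deg' ψ ^ 2 = 8673 := by linarith
  rw [ha0, hpc, hpε] at colp
  norm_num at colp
  have hge : ∀ ψ ∈ O, 14 ≤ deg' ψ := fun ψ hψ => by
    have := deg_bound hF D (ψ := ψ) fun e => (hmemO ψ hψ).1 (Subtype.ext (e.trans h1.symm))
    norm_num at this
    exact this
  have key : ∃ a ∈ O, deg' a = 91 ∧ (O.erase a).Nonempty ∧ ∀ ψ ∈ O.erase a, deg' ψ = 14 := by
    by_cases hz : ∃ a ∈ O, zp a = 0
    · obtain ⟨a, haO, hza⟩ := hz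
      have h13 := card_dvd_sub D.Ap (hzp a (hmemO a haO).2.2.2)
      rw [kP, hza, sub_zero] at h13
      have hle : deg' a ^ 2 ≤ 8673 := by
        rw [← hrem]
        exact Finset.single_le_sum (f := fun ψ => deg' ψ ^ 2) (fun ψ _ => sq_nonneg _) haO
      have hlt : deg' a < 100 := by nlinarith [hge a haO]
      have a13 : (13 : ℤ) ∣ deg' a := h13
      have a7 := h7 a haO
      have h91 : deg' a = 91 := by have := hge a haO; omega
      have hrest : ∑ ψ ∈ O.erase a, deg' ψ ^ 2 = 392 := by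
        have := Finset.add_sum_erase O (fun ψ => deg' ψ ^ 2) haO
        rw [hrem, h91] at this
        linarith
      refine ⟨a, haO, h91, ?_, fun ψ hψ => ?_⟩
      · rw [Finset.nonempty_iff_ne_empty]
        intro e
        rw [e, Finset.sum_empty] at hrest
        norm_num at hrest
      · have hψO := (Finset.mem_erase.mp hψ).2
        have hle : deg' ψ ^ 2 ≤ 392 := by
          rw [← hrest]
          exact Finset.single_le_sum (f := fun ψ => deg' ψ ^ 2) (fun ψ _ => sq_nonneg _) hψ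
        have hlt : deg' ψ < 21 := by nlinarith [hge ψ hψO]
        have := hge ψ hψO
        have := h7 ψ hψO
        omega
    · exfalso
      simp only [not_exists, not_and] at hz
      have hcard : (O.card : ℤ) ≤ 2 := by
        have : ∑ _ψ ∈ O, (1 : ℤ) ≤ ∑ ψ ∈ O, zp ψ ^ 2 := Finset.sum_le_sum fun ψ hψ => by
          have : 0 < zp ψ ^ 2 := lt_of_le_of_ne (sq_nonneg _) (Ne.symm (pow_ne_zero 2 (hz ψ hψ)))
          omega
        simp only [Finset.sum_const, nsmul_eq_mul, mul_one] at this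
        linarith
      have htwo : ∀ x < 14, ∀ y < 14, x * x + y * y ≠ 177 := by decide
      have hex : ∀ ψ ∈ O, ∃ x : ℕ, x < 14 ∧ deg' ψ = 7 * x := by
        intro ψ hψ
        have hle : deg' ψ ^ 2 ≤ 8673 := by
          rw [← hrem]
          exact Finset.single_le_sum (f := fun ψ => deg' ψ ^ 2) (fun ψ _ => sq_nonneg _) hψ
        have hlt : deg' ψ < 98 := by nlinarith [hge ψ hψ]
        obtain ⟨t, ht⟩ := h7 ψ hψ
        have := hge ψ hψ
        exact ⟨t.toNat, by omega, by omega⟩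
      have hc : O.card = 0 ∨ O.card = 1 ∨ O.card = 2 := by omega
      rcases hc with hc | hc | hc
      · rw [Finset.card_eq_zero] at hc
        rw [hc, Finset.sum_empty] at hrem
        norm_num at hrem
      · obtain ⟨a, ha'⟩ := Finset.card_eq_one.mp hc
        obtain ⟨x, hx, ex⟩ := hex a (by rw [ha']; simp)
        rw [ha', Finset.sum_singleton, ex] at hrem
        have : ((x * x + 0 * 0 : ℕ) : ℤ) = ((177 : ℕ) : ℤ) := by push_cast; linarith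
        exact htwo x hx 0 (by norm_num) (by exact_mod_cast this)
      · obtain ⟨a, b, hab, hab'⟩ := Finset.card_eq_two.mp hc
        obtain ⟨x, hx, ex⟩ := hex a (by rw [hab']; simp)
        obtain ⟨y, hy, ey⟩ := hex b (by rw [hab']; simp)
        rw [hab', Finset.sum_pair hab, ex, ey] at hrem
        have : ((x * x + y * y : ℕ) : ℤ) = ((177 : ℕ) : ℤ) := by push_cast; linarith
        exact htwo x hx y hy (by exact_mod_cast this)
  obtain ⟨a, haO, h91, -, hrest⟩ := key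
  have hε0 : f0.ε = 1 := by
    have h := deg0 0
    rw [e0] at h
    rcases f0.hε with e | e
    · exact e
    · rw [e] at h; omega
  have hw00 : w0 = 0 := by
    have h := deg0 0
    rw [e0, hε0] at h; omega
  have hwp0 : wp = 0 := by
    have h := degp 0
    rw [ep, hpc, hpε] at h; omega
  have hrestsum : ∑ ψ ∈ O.erase a, deg' ψ ^ 2 = 392 := by
    have := Finset.add_sum_erase O (fun ψ => deg' ψ ^ 2) haO
    rw [hrem, h91] at this
    linarith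
  have hcard : (O.erase a).card = 2 := by
    rw [Finset.sum_congr rfl (g := fun _ => (196 : ℤ)) fun ψ hψ => by rw [hrest ψ hψ]; norm_num,
      Finset.sum_const, nsmul_eq_mul] at hrestsum
    omega
  obtain ⟨b, c, hbc, hO2⟩ := Finset.card_eq_two.mp hcard
  have hmem : ∀ ψ, ψ = b ∨ ψ = c → ψ ∈ O.erase a := by
    rintro ψ (rfl | rfl) <;> simp [hO2]
  have hSm3 : ∑ ψ ∈ O, zm ψ ^ 2 = 3 := by rw [hw00, hwp0] at colm; linarith
  have hSp2 : ∑ ψ ∈ O, zp ψ ^ 2 = 2 := by linarith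
  have haT : ValOn (T hF) a 0 := by
    obtain ⟨x, y, z, -⟩ := hmemO a haO
    exact hzero a z x y
  have hap : zp a = 0 := by
    have h := card_dvd_sub D.Ap (hzp a (hmemO a haO).2.2.2)
    rw [kP] at h
    have hb : zp a ^ 2 ≤ 2 := by
      have := Finset.single_le_sum (f := fun ψ => zp ψ ^ 2) (fun ψ _ => sq_nonneg _) haO
      linarith
    have : -1 ≤ zp a := by nlinarith
    have : zp a ≤ 1 := by nlinarith
    change (13 : ℤ) ∣ deg' a - zp a at h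
    rw [h91] at h
    omega
  have ham : zm a = 1 := by
    have h := orth hF D (hmemO a haO).2.1 s1 sU sT sp sm
    rw [sum_valOn haT, sum_valOn (hzp a (hmemO a haO).2.2.2), sum_valOn (hzm a), hap, h91, kA] at h
    have h' : ((zm a : ℤ) : ℂ) = ((1 : ℤ) : ℂ) := by
      push_cast at h ⊢
      linear_combination (-1 / (64 * 91)) * h
    exact_mod_cast h'
  have hpm : ∀ ψ, ψ = b ∨ ψ = c → ValOn D.Ap ψ 1 ∧ ValOn D.Am ψ (-1) := by
    intro ψ hψ
    have hψO := (Finset.mem_erase.mp (hmem ψ hψ)).2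
    obtain ⟨a1, a2, a3, a4⟩ := hmemO ψ hψO
    have hbp : zp ψ ^ 2 ≤ 3 := by
      have := Finset.single_le_sum (f := fun ψ => zp ψ ^ 2) (fun ψ _ => sq_nonneg _) hψO
      linarith
    have hbm : zm ψ ^ 2 ≤ 3 := by
      have := Finset.single_le_sum (f := fun ψ => zm ψ ^ 2) (fun ψ _ => sq_nonneg _) hψO
      linarith
    obtain ⟨f1, f2⟩ := pm hF D a2 s1 sU sT sp sm (by rw [hrest ψ (hmem ψ hψ)]; norm_num) (hzero ψ a3 a1 a2)
      (hzp ψ a4) (hzm ψ) hbp hbm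
    exact ⟨f1 ▸ hzp ψ a4, f2 ▸ hzm ψ⟩
  have hsplitC : ∀ g : IrrCharacter 𝔾 → ℂ, ∑ ψ, g ψ =
      g one + g St + ∑ ψ ∈ f0.range, g ψ + ∑ ψ ∈ fp.range, g ψ + ∑ ψ ∈ ({a} : Finset _), g ψ + (g b + g c) := by
    intro g
    rw [Finset.sum_singleton, ← Finset.sum_pair hbc, ← hO2, add_assoc _ (g a), Finset.add_sum_erase O g haO,
      hO, ← Finset.sum_sdiff (Finset.subset_univ
        (({one, St} : Finset (IrrCharacter 𝔾)) ∪ f0.range ∪ fp.range)),
      Finset.sum_union, Finset.sum_union, Finset.sum_pair hne]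
    · ring
    · simp [Finset.disjoint_left, o0, S0]
    · simp only [Finset.disjoint_union_left]
      exact ⟨by simp [Finset.disjoint_left, op, Sp], dis0p⟩
  exact ⟨{
    one := one, St := St, a := b, b := c, R0 := f0.range, Rp := fp.range, Rm := {a}
    split := hsplitC
    n0 := by rw [f0.card_range]; norm_num
    np := by rw [fp.card_range]; norm_num
    nm := by simp
    one_val := h1
    done' := dOne
    dSt := by rw [dSt]; norm_num
    d0 := fun ψ h => by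
      obtain ⟨i, rfl⟩ := f0.mem_range.mp h
      rw [deg0 i, ← deg0 0, e0]; norm_num
    dp := fun ψ h => by
      obtain ⟨i, rfl⟩ := fp.mem_range.mp h
      rw [degp i, ← degp 0, ep]; norm_num
    dm := fun ψ h => by rw [Finset.mem_singleton.mp h, h91]; norm_num
    dO := fun ψ h => by rw [hrest ψ (hmem ψ h)]; norm_num
    StU := sU, StT := sT, StP := sp, StM := sm
    zT := by
      rintro ψ (h | h | h)
      · exact hzero ψ (Finset.disjoint_right.mp dis0p h) (fun e => op (e ▸ h)) (fun e => Sp (e ▸ h))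
      · exact (Finset.mem_singleton.mp h) ▸ haT
      · obtain ⟨a1, a2, a3, -⟩ := hmemO ψ (Finset.mem_erase.mp (hmem ψ h)).2
        exact hzero ψ a3 a1 a2
    zP := by
      rintro ψ (h | h)
      · obtain ⟨i, rfl⟩ := f0.mem_range.mp h
        exact ha0 ▸ ha i ▸ hz0p i
      · rw [Finset.mem_singleton.mp h]
        exact hap ▸ hzp a (hmemO a haO).2.2.2
    zM := by
      rintro ψ (h | h)
      · obtain ⟨i, rfl⟩ := f0.mem_range.mp h
        exact hw00 ▸ hw0 i ▸ hzm _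
      · obtain ⟨i, rfl⟩ := fp.mem_range.mp h
        exact hwp0 ▸ hwp i ▸ hzm _
    OP := fun ψ h => (hpm ψ h).1
    OM := fun ψ h => (hpm ψ h).2
    sum0 := fun k hk => by rw [(fam_sums f0 hc0 hk).1, hε0]; norm_num
    sump := fun k hk => by rw [(fam_sums fp hpc hk).1, hpε]; norm_num
    summ := fun k hk => by rw [Finset.sum_singleton, hzm a k hk, ham]; norm_num
    sq0 := fun k hk => by rw [(fam_sums f0 hc0 hk).2]; norm_num
    sqp := fun k hk => by rw [(fam_sums fp hpc hk).2]; norm_num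
    sqm := fun k hk => by rw [Finset.sum_singleton, hzm a k hk, ham, kA]; norm_num
    const0 := fun ψ h φ h' x hx => by
      obtain ⟨i, rfl⟩ := f0.mem_range.mp h; obtain ⟨j, rfl⟩ := f0.mem_range.mp h'; exact f0.off i j x hx
    constp := fun ψ h φ h' x hx => by
      obtain ⟨i, rfl⟩ := fp.mem_range.mp h; obtain ⟨j, rfl⟩ := fp.mem_range.mp h'; exact fp.off i j x hx
    constm := fun ψ h φ h' x hx => by
      rw [Finset.mem_singleton.mp h, Finset.mem_singleton.mp h'] }⟩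

theorem exists_table : Nonempty (Table hF D) := by
  rcases Nat.lt_or_ge u 2 with h | h
  · exact table_small hF D (by have := hu1 hF D; omega)
  · exact table_big hF D h

/-- The irreducible character degrees of a Suzuki group. -/
theorem degrees :
    (∀ ψ : IrrCharacter 𝔾, deg' ψ ∈ degs u) ∧ ∀ d ∈ degs (u : ℤ), ∃ ψ : IrrCharacter 𝔾, deg' ψ = d := by
  classical
  obtain ⟨Tb⟩ := exists_table hF D
  have hu := hu1 hF D
  refine ⟨fun ψ => ?_, fun d hd => ?_⟩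
  · have h := Tb.split fun φ => if φ = ψ then 1 else 0
    simp only [Finset.sum_ite_eq', Finset.mem_univ, if_true] at h
    by_cases e1 : Tb.one = ψ
    · subst e1; simp [degs, Tb.done']
    by_cases e2 : Tb.St = ψ
    · subst e2; simp [degs, Tb.dSt]
    by_cases e3 : ψ ∈ Tb.R0
    · simp [degs, Tb.d0 ψ e3]
    by_cases e4 : ψ ∈ Tb.Rp
    · simp [degs, Tb.dp ψ e4]
    by_cases e5 : ψ ∈ Tb.Rm
    · simp [degs, Tb.dm ψ e5]
    by_cases e6 : ψ = Tb.a ∨ ψ = Tb.b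
    · simp [degs, Tb.dO ψ e6]
    · exfalso
      rw [if_neg e1, if_neg e2, if_neg e3, if_neg e4, if_neg e5, if_neg (fun e => e6 (Or.inl e.symm)),
        if_neg (fun e => e6 (Or.inr e.symm))] at h
      norm_num at h
  · have hne : ∀ {R : Finset (IrrCharacter 𝔾)} {n : ℤ}, (R.card : ℤ) = n → 0 < n → ∃ ψ, ψ ∈ R := by
      intro R n h hn
      exact Finset.card_pos.mp (by omega)
    have hu' : (1 : ℤ) ≤ u := by exact_mod_cast hu
    simp only [degs, Finset.mem_insert, Finset.mem_singleton] at hd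
    rcases hd with rfl | rfl | rfl | rfl | rfl | rfl
    · exact ⟨_, Tb.done'⟩
    · exact ⟨_, Tb.dSt⟩
    · obtain ⟨ψ, hψ⟩ := hne Tb.n0 (by nlinarith); exact ⟨ψ, Tb.d0 ψ hψ⟩
    · obtain ⟨ψ, hψ⟩ := hne Tb.np (by nlinarith); exact ⟨ψ, Tb.dp ψ hψ⟩
    · obtain ⟨ψ, hψ⟩ := hne Tb.nm (by nlinarith); exact ⟨ψ, Tb.dm ψ hψ⟩
    · exact ⟨Tb.a, Tb.dO _ (Or.inl rfl)⟩

end CfsgLib.Suzuki.Degrees
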