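/-
The degree set of the Suzuki groups.
-/
import Cfsg.Agent.Lib.Suzuki.Degrees.Main
import Cfsg.Agent.Lib.Suzuki.Lie
import Cfsg.Agent.Lib.SL2Char.DegreeGraph
import Cfsg.Prelude.Def_DegreeGraph

namespace CfsgLib.Suzuki.Degrees

open Cfsg CfsgLib.Suzuki

variable {F : Type*} [Field F] [Fintype F] {m : ℕ}

set_option quotPrecheck false in
local notation "𝔾" => ↥(Cfsg.Sz F m)

theorem charDegrees_Sz (hF : Fintype.card F = 2 ^ (2 * m + 1)) {u : ℕ} (D : Tori (F := F) (m := m) u) (d : ℕ) :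
    d ∈ charDegrees 𝔾 ↔ (d = 1 ∨ d = (8 * u ^ 2) ^ 2 ∨ d = (8 * u ^ 2) ^ 2 + 1 ∨
      d = (8 * u ^ 2 - 1) * (8 * u ^ 2 - 4 * u + 1) ∨ d = (8 * u ^ 2 - 1) * (8 * u ^ 2 + 4 * u + 1) ∨
      d = 2 * u * (8 * u ^ 2 - 1)) := by
  classical
  have : Fintype 𝔾 := Fintype.ofFinite _
  obtain ⟨h1, h2⟩ := degrees hF D
  have hu := hu1 hF D
  have e1 : 1 ≤ 8 * u ^ 2 := by nlinarith
  have e2 : 4 * u ≤ 8 * u ^ 2 := by nlinarith
  have key : ((d : ℤ) ∈ degs (u : ℤ)) ↔ (d = 1 ∨ d = (8 * u ^ 2) ^ 2 ∨ d = (8 * u ^ 2) ^ 2 + 1 ∨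
      d = (8 * u ^ 2 - 1) * (8 * u ^ 2 - 4 * u + 1) ∨ d = (8 * u ^ 2 - 1) * (8 * u ^ 2 + 4 * u + 1) ∨
      d = 2 * u * (8 * u ^ 2 - 1)) := by
    simp only [degs, Finset.mem_insert, Finset.mem_singleton]
    refine or_congr ?_ (or_congr ?_ (or_congr ?_ (or_congr ?_ (or_congr ?_ ?_)))) <;>
      constructor <;> intro h
    all_goals first
      | (rw [h]; push_cast [Nat.cast_sub e1, Nat.cast_sub e2]; ring)
      | simp [h]
      | (zify [e1, e2]; linear_combination h)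
  rw [← key]
  constructor
  · rintro ⟨χ, rfl⟩
    exact h1 χ
  · intro h
    obtain ⟨ψ, hψ⟩ := h2 _ h
    exact ⟨ψ, by unfold deg' at hψ; exact_mod_cast hψ⟩

end CfsgLib.Suzuki.Degrees
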